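import Mathlib

/-! An upper bound for the number of orthogonal frames of a symmetric bilinear form over a finite field of odd
order. -/

set_option autoImplicit false
set_option linter.unusedSectionVars false
set_option linter.style.haveILetI false

namespace Cfsg.Lib.SpWeil

variable {F : Type*} [Field F] [Fintype F]

/-- A bound for the number of vectors of given non-zero norm in dimension `m`. -/
def sb (q m : ℕ) : ℕ := if m = 2 then q + 1 else 2 * q ^ (m - 1)

/-- A bound for the number of frames in dimension `r`. -/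
def frameBound (q : ℕ) : ℕ → ℕ
  | 0 => 1
  | r + 1 => sb q (r + 1) * frameBound q r

theorem conic_le (h2 : (2 : F) ≠ 0) {a b d : F} (ha : a ≠ 0) (hb : b ≠ 0) (hd : d ≠ 0) :
    Nat.card {p : F × F // a * p.1 ^ 2 + b * p.2 ^ 2 = d} ≤ Fintype.card F + 1 := by
  classical
  by_cases he : IsEmpty {p : F × F // a * p.1 ^ 2 + b * p.2 ^ 2 = d}
  · simp
  rw [not_isEmpty_iff] at he
  obtain ⟨⟨⟨x₀, y₀⟩, h₀⟩⟩ := he
  simp only at h₀
  let dir : {p : F × F // a * p.1 ^ 2 + b * p.2 ^ 2 = d} → Option F := fun p =>
    if p.1.1 = x₀ then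
      if p.1.2 = y₀ then (if y₀ = 0 then none else some (-(a * x₀) / (b * y₀)))
      else none
    else some ((p.1.2 - y₀) / (p.1.1 - x₀))
  have key : ∀ x y : F, a * x ^ 2 + b * y ^ 2 = d → x ≠ x₀ → ∀ t, y - y₀ = t * (x - x₀) →
      (a + b * t ^ 2) * (x - x₀) + 2 * (a * x₀ + b * y₀ * t) = 0 := by
    intro x y h hx t ht
    refine (mul_eq_zero.mp ?_).resolve_left (sub_ne_zero.mpr hx)
    have hy : y = y₀ + t * (x - x₀) := by linear_combination ht
    subst hy
    linear_combination h - h₀
  have hinj : Function.Injective dir := by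
    rintro ⟨⟨x, y⟩, h⟩ ⟨⟨x', y'⟩, h'⟩ e
    simp only at h h'
    have base : ∀ x y : F, a * x ^ 2 + b * y ^ 2 = d → x ≠ x₀ →
        ((if y₀ = 0 then none else some (-(a * x₀) / (b * y₀))) : Option F) ≠ some ((y - y₀) / (x - x₀)) := by
      intro x y h hx e
      have hne : y₀ ≠ 0 := fun h0 => by rw [if_pos h0] at e; exact absurd e (by simp)
      rw [if_neg hne, Option.some.injEq] at e
      set t := (y - y₀) / (x - x₀) with ht
      have k := key x y h hx t (by rw [ht, div_mul_cancel₀ _ (sub_ne_zero.mpr hx)])
      have hbt : b * y₀ * t = -(a * x₀) := by rw [← e, mul_div_cancel₀ _ (mul_ne_zero hb hne)]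
      rw [hbt, add_neg_cancel, mul_zero, add_zero] at k
      have h1 : a + b * t ^ 2 = 0 := (mul_eq_zero.mp k).resolve_right (sub_ne_zero.mpr hx)
      have h3 : a * d = 0 := by
        linear_combination (-a) * h₀ + b * y₀ ^ 2 * h1 - (b * y₀ * t - a * x₀) * hbt
      exact hd ((mul_eq_zero.mp h3).resolve_left ha)
    have vert : ∀ y : F, a * x₀ ^ 2 + b * y ^ 2 = d → y ≠ y₀ → y = -y₀ := by
      intro y h hy
      have : (y - y₀) * (y + y₀) = 0 := by
        refine (mul_eq_zero.mp ?_).resolve_left hb
        linear_combination h - h₀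
      exact eq_neg_of_add_eq_zero_left ((mul_eq_zero.mp this).resolve_left (sub_ne_zero.mpr hy))
    refine Subtype.ext (Prod.ext_iff.mpr ?_)
    change x = x' ∧ y = y'
    simp only [dir] at e
    by_cases hx : x = x₀ <;> by_cases hx' : x' = x₀
    · subst hx; subst hx'
      refine ⟨rfl, ?_⟩
      by_cases hy : y = y₀ <;> by_cases hy' : y' = y₀
      · rw [hy, hy']
      · exfalso
        simp only [hy, hy', if_true, if_false] at e
        rcases eq_or_ne y₀ 0 with h0 | h0
        · exact hy' (by rw [vert y' h' hy', h0, neg_zero])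
        · rw [if_neg h0] at e; exact absurd e (by simp)
      · exfalso
        simp only [hy, hy', if_true, if_false] at e
        rcases eq_or_ne y₀ 0 with h0 | h0
        · exact hy (by rw [vert y h hy, h0, neg_zero])
        · rw [if_neg h0] at e; exact absurd e (by simp)
      · rw [vert y h hy, vert y' h' hy']
    · exfalso
      subst hx
      by_cases hy : y = y₀
      · simp only [hy, hx', if_true, if_false] at e
        exact base x' y' h' hx' e
      · simp only [hy, hx', if_true, if_false] at e
        exact absurd e (by simp)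
    · exfalso
      subst hx'
      by_cases hy : y' = y₀
      · simp only [hy, hx, if_true, if_false] at e
        exact base x y h hx e.symm
      · simp only [hy, hx, if_true, if_false] at e
        exact absurd e (by simp)
    · simp only [hx, hx', if_false, Option.some.injEq] at e
      set t := (y - y₀) / (x - x₀) with ht
      have ey : y - y₀ = t * (x - x₀) := by rw [ht, div_mul_cancel₀ _ (sub_ne_zero.mpr hx)]
      have ey' : y' - y₀ = t * (x' - x₀) := by rw [e, div_mul_cancel₀ _ (sub_ne_zero.mpr hx')]
      have k := key x y h hx t ey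
      have k' := key x' y' h' hx' t ey'
      have hz : a + b * t ^ 2 ≠ 0 := by
        intro h0
        rw [h0, zero_mul, zero_add] at k
        have hbt : b * y₀ * t = -(a * x₀) := by linear_combination ((mul_eq_zero.mp k).resolve_left h2)
        have h3 : a * d = 0 := by
          linear_combination (-a) * h₀ + b * y₀ ^ 2 * h0 - (b * y₀ * t - a * x₀) * hbt
        exact hd ((mul_eq_zero.mp h3).resolve_left ha)
      have ex : x = x' := by
        have := mul_left_cancel₀ hz (show (a + b * t ^ 2) * (x - x₀) = (a + b * t ^ 2) * (x' - x₀) by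
          linear_combination k - k')
        linear_combination this
      exact ⟨ex, by linear_combination ey - ey' + t * ex⟩
  have := Nat.card_le_card_of_injective dir hinj
  simpa [Nat.card_eq_fintype_card] using this

theorem sphere_coord_le (h2 : (2 : F) ≠ 0) {m : ℕ} (a : Fin (m + 1) → F) (ha : ∀ i, a i ≠ 0) {d : F}
    (hd : d ≠ 0) : Nat.card {x : Fin (m + 1) → F // ∑ i, a i * x i ^ 2 = d} ≤ sb (Fintype.card F) (m + 1) := by
  classical
  by_cases hm : m + 1 = 2
  · obtain rfl : m = 1 := by omega
    rw [sb, if_pos rfl]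
    refine le_trans (Nat.le_of_eq (Nat.card_congr ((finTwoArrowEquiv F).subtypeEquiv fun x => ?_)))
      (conic_le h2 (ha 0) (ha 1) hd)
    simp [Fin.sum_univ_two, finTwoArrowEquiv]
  rw [sb, if_neg hm, Nat.add_sub_cancel, Nat.card_eq_fintype_card, Fintype.card_subtype]
  refine le_trans (Finset.card_le_mul_card_image (f := fun x : Fin (m + 1) → F => Fin.tail x) _ 2 fun y hy => ?_)
    (Nat.mul_le_mul_left 2 ((Finset.card_le_univ _).trans (by simp)))
  obtain ⟨x₁, hx₁, rfl⟩ := Finset.mem_image.mp hy
  refine (Finset.card_le_card (t := ({x₁, Fin.cons (-x₁ 0) (Fin.tail x₁)} : Finset (Fin (m + 1) → F)))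
    fun x hx => ?_).trans Finset.card_le_two
  simp only [Finset.mem_filter, Finset.mem_univ, true_and] at hx hx₁
  obtain ⟨hx, ht⟩ := hx
  rw [Fin.sum_univ_succ] at hx hx₁
  have htail : ∀ i : Fin m, x i.succ = x₁ i.succ := fun i => congrFun ht i
  simp only [htail] at hx
  have : x 0 ^ 2 = x₁ 0 ^ 2 := mul_left_cancel₀ (ha 0) (by linear_combination hx - hx₁)
  rw [Finset.mem_insert, Finset.mem_singleton]
  rcases sq_eq_sq_iff_eq_or_eq_neg.mp this with h | h
  · left; rw [← Fin.cons_self_tail x, ← Fin.cons_self_tail x₁, h, ht]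
  · right; rw [← Fin.cons_self_tail x, h, ht]

theorem sphere_le (h2 : (2 : F) ≠ 0) {W : Type*} [AddCommGroup W] [Module F W] [FiniteDimensional F W]
    (b : LinearMap.BilinForm F W) (hs : ∀ x y, b x y = b y x) (hnd : ∀ x, (∀ y, b x y = 0) → x = 0) {m : ℕ}
    (hm : Module.finrank F W = m + 1) {d : F} (hd : d ≠ 0) :
    Nat.card {w : W // b w w = d} ≤ sb (Fintype.card F) (m + 1) := by
  classical
  haveI : Invertible (2 : F) := invertibleOfNonzero h2
  obtain ⟨v₀, hv₀⟩ := LinearMap.BilinForm.exists_orthogonal_basis (B := b) (LinearMap.isSymm_def.mpr fun x y => by simpa using hs x y)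
  let v := v₀.reindex (finCongr hm)
  have hv : ∀ i j, i ≠ j → b (v i) (v j) = 0 := fun i j hij => by
    simp only [v, Module.Basis.reindex_apply]
    exact hv₀ fun e => hij ((finCongr hm).symm.injective e)
  have hexp : ∀ w : W, b w w = ∑ i, b (v i) (v i) * v.equivFun w i ^ 2 := by
    intro w
    conv_lhs => rw [← v.sum_equivFun w]
    simp only [map_sum, map_smul, LinearMap.coe_sum, Finset.sum_apply, LinearMap.smul_apply, smul_eq_mul]
    refine Finset.sum_congr rfl fun i _ => ?_
    rw [Finset.sum_eq_single i (fun j _ hj => by simp [hv j i hj]) (fun h => absurd (Finset.mem_univ _) h)]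
    ring
  refine le_trans (Nat.le_of_eq (Nat.card_congr (v.equivFun.toEquiv.subtypeEquiv fun w => ?_)))
    (sphere_coord_le h2 (fun i => b (v i) (v i)) (fun i e => v.ne_zero i (hnd _ fun y => ?_)) hd)
  · rw [hexp]; rfl
  · rw [← v.sum_equivFun y, map_sum]
    refine Finset.sum_eq_zero fun j _ => ?_
    rw [map_smul, smul_eq_mul]
    rcases eq_or_ne i j with rfl | hij
    · rw [e, mul_zero]
    · rw [hv i j hij, mul_zero]

/-- The number of orthogonal frames with prescribed norms. -/
theorem frames_le (h2 : (2 : F) ≠ 0) : ∀ (r : ℕ) {W : Type*} [AddCommGroup W] [Module F W]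
    [FiniteDimensional F W] (b : LinearMap.BilinForm F W), (∀ x y, b x y = b y x) →
    (∀ x, (∀ y, b x y = 0) → x = 0) → Module.finrank F W = r → ∀ d : Fin r → F, (∀ i, d i ≠ 0) →
    Nat.card {w : Fin r → W // ∀ i j, b (w i) (w j) = if i = j then d i else 0} ≤ frameBound (Fintype.card F) r := by
  classical
  intro r
  induction r with
  | zero =>
    intro W _ _ _ b _ _ _ d _
    exact Finite.card_le_one_iff_subsingleton.mpr inferInstance
  | succ r IH =>
    intro W _ _ _ b hs hnd hr d hd
    haveI : Finite W := Module.finite_of_finite F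
    let S := {w : W // b w w = d 0}
    let T : S → Type _ := fun s => {u : Fin r → LinearMap.ker (b (s : W)) //
      ∀ i j, b (u i : W) (u j) = if i = j then d i.succ else 0}
    let f : {w : Fin (r + 1) → W // ∀ i j, b (w i) (w j) = if i = j then d i else 0} → Σ s, T s := fun w =>
      ⟨⟨w.1 0, by simpa using w.2 0 0⟩, ⟨fun i => ⟨w.1 i.succ, LinearMap.mem_ker.mpr (by
        simpa [(Fin.succ_ne_zero i).symm] using w.2 0 i.succ)⟩, fun i j => by
          simpa using w.2 i.succ j.succ⟩⟩
    have hinj : Function.Injective f := by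
      intro w w' e
      have h0 : w.1 0 = w'.1 0 := congrArg (fun p : Σ s, T s => (p.1 : W)) e
      have h1 : (fun i : Fin r => w.1 i.succ) = fun i => w'.1 i.succ :=
        congrArg (fun p : Σ s, T s => fun i => ((p.2.1 i : LinearMap.ker (b (p.1 : W))) : W)) e
      exact Subtype.ext (funext fun i => Fin.cases h0 (congrFun h1) i)
    have hT : ∀ s : S, Nat.card (T s) ≤ frameBound (Fintype.card F) r := by
      intro s
      have hne : b (s : W) ≠ 0 := fun e => hd 0 (by rw [← s.2, e, LinearMap.zero_apply])
      refine IH (b.restrict (LinearMap.ker (b (s : W)))) (fun x y => hs _ _) (fun x hx => Subtype.ext ?_) ?_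
        (fun i => d i.succ) (fun i => hd _)
      · refine hnd _ fun y => ?_
        have hy : y - (b (s : W) y / d 0) • (s : W) ∈ LinearMap.ker (b (s : W)) := by
          rw [LinearMap.mem_ker, map_sub, map_smul, s.2, smul_eq_mul, div_mul_cancel₀ _ (hd 0), sub_self]
        have := hx ⟨_, hy⟩
        change b (x : W) (y - _) = 0 at this
        rwa [map_sub, map_smul, hs (x : W) s, LinearMap.mem_ker.mp x.2, smul_zero, sub_zero] at this
      · have h := LinearMap.finrank_range_add_finrank_ker (b (s : W))
        rw [Module.Dual.range_eq_top_of_ne_zero hne, finrank_top, Module.finrank_self, hr] at h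
        omega
    calc _ ≤ Nat.card (Σ s, T s) := Nat.card_le_card_of_injective f hinj
      _ = ∑' s : S, Nat.card (T s) := by
          haveI := Fintype.ofFinite S
          rw [Nat.card_sigma, tsum_fintype]
      _ ≤ Nat.card S * frameBound (Fintype.card F) r := by
          haveI := Fintype.ofFinite S
          rw [tsum_fintype, Nat.card_eq_fintype_card]
          exact (Finset.sum_le_card_nsmul _ _ _ fun s _ => hT s).trans (by rw [smul_eq_mul, Finset.card_univ])
      _ ≤ _ := Nat.mul_le_mul_right _ (sphere_le h2 b hs hnd hr (hd 0))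

theorem frameBound_pos {q : ℕ} (hq : 1 ≤ q) : ∀ r, 0 < frameBound q r
  | 0 => by simp [frameBound]
  | r + 1 => by
    rw [frameBound]
    refine Nat.mul_pos ?_ (frameBound_pos hq r)
    unfold sb
    split_ifs
    · omega
    · exact Nat.mul_pos two_pos (pow_pos hq _)

theorem frameBound_le {n : ℕ} (hq : 3 ≤ Fintype.card F) : ∀ r, 2 ≤ r → r ≤ n →
    (Fintype.card F ^ n - 1) * (Fintype.card F ^ n - Fintype.card F) * frameBound (Fintype.card F) r ≤
      2 * (Fintype.card F + 1) * ∏ i : Fin r, (Fintype.card F ^ n - Fintype.card F ^ (i : ℕ)) := by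
  set q := Fintype.card F
  intro r hr
  induction r, hr using Nat.le_induction with
  | base =>
    intro _
    simp only [frameBound, sb, Fin.prod_univ_two, Fin.val_zero, pow_zero, Fin.val_one, pow_one]
    simp only [show ¬ (0 + 1 = 2) by omega, if_false, if_true, Nat.reduceAdd, Nat.sub_self, pow_zero, mul_one]
    exact le_of_eq (by ring)
  | succ r hr IH =>
    intro hrn
    rw [Fin.prod_univ_castSucc, frameBound, sb, if_neg (show r + 1 ≠ 2 by omega), Nat.add_sub_cancel]
    simp only [Fin.val_castSucc, Fin.val_last]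
    have h1 : 2 * q ^ r ≤ q ^ n - q ^ r := by
      have h3 : 3 * q ^ r ≤ q ^ n := calc
        3 * q ^ r ≤ q * q ^ r := Nat.mul_le_mul_right _ hq
        _ = q ^ (r + 1) := (pow_succ' q r).symm
        _ ≤ q ^ n := Nat.pow_le_pow_right (by omega) hrn
      omega
    calc (q ^ n - 1) * (q ^ n - q) * (2 * q ^ r * frameBound q r)
        = (q ^ n - 1) * (q ^ n - q) * frameBound q r * (2 * q ^ r) := by ring
      _ ≤ 2 * (q + 1) * (∏ i : Fin r, (q ^ n - q ^ (i : ℕ))) * (q ^ n - q ^ r) :=
          Nat.mul_le_mul (IH (by omega)) h1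
      _ = _ := by ring

end Cfsg.Lib.SpWeil
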