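import Mathlib
import Cfsg.Agent.Known.SpMinDegree.Basic

/-! Short root elements of a symplectic space as a total function of two vectors, and generation of pointwise
stabilisers by transvections. -/

set_option autoImplicit false
set_option linter.unusedSectionVars false
set_option linter.style.haveILetI false

open Cfsg.Lib.Classical Cfsg.Lib.SpMinDeg

namespace Cfsg.Lib.SpWeil

universe u v

variable {F : Type u} [Field F] {V : Type v} [AddCommGroup V] [Module F V] {B : LinearMap.BilinForm F V}
variable (hA : B.IsAlt)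

/-- For orthogonal `x`, `w` this is the short root element of the pair. -/
def sh (x w : V) (l : F) : BilinIsom B :=
  sympT hA (x + w) l * sympT hA x (-l) * sympT hA w (-l)

variable {hA}

theorem sh_eq_srt {x w : V} (h : B x w = 0) (l : F) : sh hA x w l = srt hA h l := by
  refine BilinIsom.ext' fun y => ?_
  simp only [sh, BilinIsom.mul_apply', sympT_apply, srt_apply, map_add, map_smul, LinearMap.add_apply,
    LinearMap.smul_apply, smul_eq_mul, hA x, hA w, h, swap hA w x]
  module

theorem sh_apply {x w : V} (h : B x w = 0) (l : F) (y : V) :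
    ((sh hA x w l : BilinIsom B) : V ≃ₗ[F] V) y = y + l • (B y w • x + B y x • w) := by
  rw [sh_eq_srt h, srt_apply]

theorem conj_sh (g : BilinIsom B) (x w : V) (l : F) :
    g * sh hA x w l * g⁻¹ = sh hA ((g : V ≃ₗ[F] V) x) ((g : V ≃ₗ[F] V) w) l := by
  simp only [sh, ← map_add, ← sympT_conj hA g]
  group

theorem sh_symm {x w : V} (h : B x w = 0) (l : F) : sh hA w x l = sh hA x w l := by
  have h' : B w x = 0 := by rw [swap hA, h, neg_zero]
  refine BilinIsom.ext' fun y => ?_
  rw [sh_apply h, sh_apply h', add_comm (B y w • x)]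

theorem sh_self (x : V) (a l : F) : sh hA x (a • x) l = sympT hA x (2 * a * l) := by
  refine BilinIsom.ext' fun y => ?_
  rw [sh_apply (by rw [map_smul, hA x, smul_zero]), sympT_apply]
  simp only [map_smul, smul_eq_mul]
  module

theorem sh_smul {x w : V} (h : B x w = 0) (a l : F) : sh hA x (a • w) l = sh hA x w (a * l) := by
  refine BilinIsom.ext' fun y => ?_
  rw [sh_apply (by rw [map_smul, h, smul_zero]), sh_apply h]
  simp only [map_smul, smul_eq_mul]
  module

theorem sh_add {x w : V} (h : B x w = 0) (l m : F) : sh hA x w (l + m) = sh hA x w l * sh hA x w m := by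
  refine BilinIsom.ext' fun y => ?_
  rw [BilinIsom.mul_apply', sh_apply h, sh_apply h, sh_apply h]
  simp only [map_add, map_smul, LinearMap.add_apply, LinearMap.smul_apply, smul_eq_mul, hA x, hA w, h,
    swap hA w x]
  module

theorem sh_zero {x w : V} (h : B x w = 0) : sh hA x w 0 = 1 :=
  BilinIsom.ext' fun y => by rw [sh_apply h, zero_smul, add_zero, BilinIsom.one_apply']

theorem sh_neg {x w : V} (h : B x w = 0) (l : F) : sh hA x w (-l) = (sh hA x w l)⁻¹ :=
  eq_inv_of_mul_eq_one_left (by rw [← sh_add h, neg_add_cancel, sh_zero h])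

theorem sh_add_left {a b w : V} (ha : B a w = 0) (hb : B b w = 0) (hab : B a b = 0) (l : F) :
    sh hA (a + b) w l = sh hA a w l * sh hA b w l := by
  refine BilinIsom.ext' fun y => ?_
  rw [BilinIsom.mul_apply', sh_apply (by rw [map_add, LinearMap.add_apply, ha, hb, add_zero]), sh_apply ha,
    sh_apply hb]
  simp only [map_add, map_smul, LinearMap.add_apply, LinearMap.smul_apply, smul_eq_mul, hA w, ha, hb, hab,
    swap hA b a, swap hA w a]
  module

theorem sh_add_right {x a b : V} (ha : B x a = 0) (hb : B x b = 0) (hab : B a b = 0) (l : F) :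
    sh hA x (a + b) l = sh hA x a l * sh hA x b l := by
  have ha' : B a x = 0 := by rw [swap hA, ha, neg_zero]
  have hb' : B b x = 0 := by rw [swap hA, hb, neg_zero]
  rw [sh_symm (by rw [map_add, LinearMap.add_apply, ha', hb', add_zero] : B (a + b) x = 0),
    sh_add_left ha' hb' hab, sh_symm ha, sh_symm hb]

/-- The transvection of `a x + b w`. -/
theorem sympT_comb {x w : V} (h : B x w = 0) (a b c : F) :
    sympT hA (a • x + b • w) c = sympT hA x (c * a ^ 2) * sympT hA w (c * b ^ 2) * sh hA x w (c * a * b) := by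
  rw [sympT_split hA h, sh_eq_srt h]

/-- Short root elements of two vectors orthogonal to `x` multiply up to a transvection of centre `x`. -/
theorem sh_mul_sh {x a b : V} (ha : B x a = 0) (hb : B x b = 0) :
    sh hA x a 1 * sh hA x b 1 = sh hA x (a + b) 1 * sympT hA x (-B a b) := by
  refine BilinIsom.ext' fun y => ?_
  rw [BilinIsom.mul_apply', BilinIsom.mul_apply', sh_apply (show B x (a + b) = 0 by rw [map_add, ha, hb, add_zero]), sh_apply ha,
    sh_apply hb, sympT_apply]
  simp only [map_add, map_smul, LinearMap.add_apply, LinearMap.smul_apply, smul_eq_mul, hA x, ha, hb,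
    swap hA a x, swap hA b x, swap hA b a]
  module

/-- A transvection orthogonal to `x` normalises the short root subgroup of `x` and `w`, up to centre. -/
theorem sh_shift {x z w : V} (hz : B x z = 0) (hw : B x w = 0) (l : F) :
    sh hA x w l * sh hA x z 1 = sh hA x z 1 * sh hA x w l * sympT hA x (2 * l * B z w) := by
  refine BilinIsom.ext' fun y => ?_
  simp only [BilinIsom.mul_apply', sh_apply hz, sh_apply hw, sympT_apply, map_add, map_smul,
    LinearMap.add_apply, LinearMap.smul_apply, smul_eq_mul, hA x, hA w, hA z, hz, hw, swap hA z x,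
    swap hA w x, swap hA w z]
  module

theorem sh_centre {x w : V} (h : B x w = 0) (l : F) : ((sh hA x w l : BilinIsom B) : V ≃ₗ[F] V) x = x := by
  rw [sh_apply h, h, hA x, zero_smul, zero_smul, add_zero, smul_zero, add_zero]

theorem sh_fix {x w z : V} (h : B x w = 0) (hx : B z x = 0) (hw : B z w = 0) (l : F) :
    ((sh hA x w l : BilinIsom B) : V ≃ₗ[F] V) z = z := by
  rw [sh_apply h, hx, hw, zero_smul, zero_smul, add_zero, smul_zero, add_zero]

theorem commute_sh_sympT {x w z : V} (h : B x w = 0) (hx : B z x = 0) (hw : B z w = 0) (l c : F) :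
    Commute (sh hA x w l) (sympT hA z c) :=
  root_commute hA (sh_fix h hx hw l) c

theorem commute_sh_sh {x w a b : V} (hab : B a b = 0) (h : B x w = 0) (h1 : B a x = 0) (h2 : B a w = 0)
    (h3 : B b x = 0) (h4 : B b w = 0) (l m : F) : Commute (sh hA x w l) (sh hA a b m) := by
  have e := conj_sh (hA := hA) (sh hA x w l) a b m
  rw [sh_fix h h1 h2, sh_fix h h3 h4] at e
  exact mul_inv_eq_iff_eq_mul.mp e

theorem sympT_fix {x z : V} (h : B z x = 0) (c : F) :
    ((sympT hA x c : BilinIsom B) : V ≃ₗ[F] V) z = z := by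
  rw [sympT_apply, h, mul_zero, zero_smul, add_zero]

variable (B) in
/-- Minus the identity. -/
def negIsom : BilinIsom B :=
  ⟨LinearEquiv.neg F, fun x y => by simp⟩

theorem negIsom_apply (x : V) : ((negIsom B : BilinIsom B) : V ≃ₗ[F] V) x = -x := rfl

theorem negIsom_comm (g : BilinIsom B) : g * negIsom B = negIsom B * g :=
  BilinIsom.ext' fun x => by simp [BilinIsom.mul_apply', negIsom_apply]

variable [FiniteDimensional F V] (hA)

/-- An isometry fixing `X` pointwise is a product of transvections with centres orthogonal to `X`. -/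
theorem fix_mem_transGroupOn (hB : B.Nondegenerate) : ∀ (k : ℕ) (X : Submodule F V) (g : BilinIsom B),
    Module.finrank F V - Module.finrank F X = k → (∀ z ∈ X, (g : V ≃ₗ[F] V) z = z) →
    g ∈ transGroupOn hA (B.orthogonal X : Set V) := by
  intro k
  induction k using Nat.strong_induction_on with
  | h k IH =>
    intro X g hk hg
    by_cases h1 : ∀ y, (g : V ≃ₗ[F] V) y = y
    · rw [show g = 1 from BilinIsom.ext' fun y => by rw [h1, BilinIsom.one_apply']]
      exact Subgroup.one_mem _
    push Not at h1
    obtain ⟨y, hy⟩ := h1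
    have hyX : y ∉ X := fun h => hy (hg y h)
    have hgy : (g : V ≃ₗ[F] V) y ∉ X := fun h => hy ((g : V ≃ₗ[F] V).injective (hg _ h))
    obtain ⟨t, ht, hty, htX⟩ := exists_transGroup_move hA hB X hgy hyX fun z hz => by
      conv_lhs => rw [← hg z hz]
      exact BilinIsom.map_form g z y
    have hlt : X < X ⊔ Submodule.span F {y} := lt_of_le_of_ne le_sup_left fun h =>
      hyX (by rw [h]; exact Submodule.mem_sup_right (Submodule.mem_span_singleton_self y))
    have hfix : ∀ z ∈ X ⊔ Submodule.span F {y}, ((t * g : BilinIsom B) : V ≃ₗ[F] V) z = z := by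
      intro z hz
      obtain ⟨a, ha, b, hb, rfl⟩ := Submodule.mem_sup.mp hz
      obtain ⟨r, rfl⟩ := Submodule.mem_span_singleton.mp hb
      rw [BilinIsom.mul_apply', map_add, map_smul, hg a ha, map_add, map_smul, htX a ha, hty]
    have hm := IH _ (by
      have := Submodule.finrank_lt_finrank_of_lt hlt
      have := Submodule.finrank_le (X ⊔ Submodule.span F {y})
      omega) _ (t * g) rfl hfix
    have hm' : t * g ∈ transGroupOn hA (B.orthogonal X : Set V) := Subgroup.closure_mono (by
      rintro _ ⟨v, hv, c, rfl⟩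
      exact ⟨v, LinearMap.BilinForm.orthogonal_le le_sup_left hv, c, rfl⟩) hm
    simpa using Subgroup.mul_mem _ (Subgroup.inv_mem _ ht) hm'

include hA in
/-- Isometries agree with any linear map on an independent pair preserving orthogonality. -/
theorem exists_pair_move (hB : B.Nondegenerate) {x w x' w' : V} (h : B x w = 0) (h' : B x' w' = 0)
    (hi : LinearIndependent F ![x, w]) (hi' : LinearIndependent F ![x', w']) :
    ∃ g : BilinIsom B, (g : V ≃ₗ[F] V) x = x' ∧ (g : V ≃ₗ[F] V) w = w' := by
  obtain ⟨g₁, hg₁⟩ := sympIsom_transitive hA hB (by simpa using hi.ne_zero 0) (by simpa using hi'.ne_zero 0)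
  have hnm : ∀ z : V, LinearIndependent F ![x', z] → z ∉ Submodule.span F ({x'} : Set V) := by
    intro z hz hm
    obtain ⟨r, hr⟩ := Submodule.mem_span_singleton.mp hm
    have := (LinearIndependent.pair_iff.mp hz r (-1) (by rw [neg_smul, one_smul, hr, add_neg_cancel])).2
    exact one_ne_zero (neg_eq_zero.mp this)
  have hi1 : LinearIndependent F ![x', (g₁ : V ≃ₗ[F] V) w] := by
    rw [← hg₁]
    have := hi.map' (g₁ : V ≃ₗ[F] V).toLinearMap (g₁ : V ≃ₗ[F] V).ker
    rw [show ⇑(g₁ : V ≃ₗ[F] V).toLinearMap ∘ ![x, w] = ![(g₁ : V ≃ₗ[F] V) x, (g₁ : V ≃ₗ[F] V) w] by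
      ext i; fin_cases i <;> rfl] at this
    exact this
  obtain ⟨t, _, ht, htx⟩ := exists_transGroup_move hA hB (Submodule.span F {x'}) (hnm _ hi1) (hnm _ hi')
    (fun z hz => by
      obtain ⟨r, rfl⟩ := Submodule.mem_span_singleton.mp hz
      have : B x' ((g₁ : V ≃ₗ[F] V) w) = 0 := by rw [← hg₁, BilinIsom.map_form, h]
      simp [h', this])
  exact ⟨t * g₁, by rw [BilinIsom.mul_apply', hg₁, htx _ (Submodule.mem_span_singleton_self x')],
    by rw [BilinIsom.mul_apply', ht]⟩

include hA in
theorem exists_orth_one (hB : B.Nondegenerate) {x w : V} (hi : LinearIndependent F ![x, w]) :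
    ∃ z, B x z = 0 ∧ B z w = 1 := by
  obtain ⟨d, hd, hwd⟩ := exists_nonorth_of_notMem hA hB (Submodule.span F {x}) (x := w) fun hm => by
    obtain ⟨r, hr⟩ := Submodule.mem_span_singleton.mp hm
    have := (LinearIndependent.pair_iff.mp hi r (-1) (by rw [neg_smul, one_smul, hr, add_neg_cancel])).2
    exact one_ne_zero (neg_eq_zero.mp this)
  have hd0 : B x d = 0 := hd x (Submodule.mem_span_singleton_self x)
  have hdw : B d w ≠ 0 := by rw [swap hA]; exact neg_ne_zero.mpr hwd
  exact ⟨(B d w)⁻¹ • d, by rw [map_smul, hd0, smul_zero], by simp [hdw]⟩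

end Cfsg.Lib.SpWeil
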