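import Mathlib
import Cfsg.Agent.Known.SpWeil.Gen

/-! Representations in which every isotropic plane sees characters of rank one: eigenspaces of root subgroups
and their joint eigenspaces for orthogonal pairs. -/

set_option autoImplicit false
set_option linter.unusedSectionVars false
set_option linter.style.haveILetI false

open Cfsg.Lib.Classical Cfsg.Lib.SpMinDeg Cfsg.Lib.RepEigen

namespace Cfsg.Lib.SpWeil

universe u v w

section Proj

variable {G M M' : Type*} [Group G] [AddCommGroup M] [Module ℂ M] [AddCommGroup M'] [Module ℂ M']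
  (φ : G →* Module.End ℂ M) (φ' : G →* Module.End ℂ M') {A A' : Type*} [AddCommGroup A] [Fintype A]
  [AddCommGroup A'] [Fintype A'] {f : A → G} {f' : A' → G}

theorem eig_of_proj (hf : ∀ a b, f (a + b) = f a * f b) {χ₀ : AddChar A ℂ} {x : M}
    (h : ∀ χ, χ ≠ χ₀ → proj φ f χ x = 0) : x ∈ eig φ f χ₀ := by
  have h0 : f 0 = 1 := by
    have := hf 0 0
    rw [add_zero] at this
    exact left_eq_mul.mp this
  rw [← sum_proj_apply φ h0 x, Finset.sum_eq_single χ₀ (fun χ _ hχ => h χ hχ)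
    (fun hn => absurd (Finset.mem_univ _) hn)]
  exact proj_mem_eig φ hf χ₀ x

theorem proj_self (hf : ∀ a b, f (a + b) = f a * f b) {χ : AddChar A ℂ} {x : M} (hx : x ∈ eig φ f χ) :
    proj φ f χ x = x := by
  classical
  rw [proj_apply_eig φ hf hx, if_pos rfl]

theorem proj_other (hf : ∀ a b, f (a + b) = f a * f b) {χ χ' : AddChar A ℂ} (hne : χ ≠ χ') {x : M}
    (hx : x ∈ eig φ f χ') : proj φ f χ x = 0 := by
  classical
  rw [proj_apply_eig φ hf hx, if_neg hne]

theorem proj_intertwine {T : M →ₗ[ℂ] M'} (h : ∀ a x, φ' (f a) (T x) = T (φ (f a) x)) (χ : AddChar A ℂ)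
    (x : M) : proj φ' f χ (T x) = T (proj φ f χ x) := by
  simp [proj, h]

theorem proj_mem_eig_comm (h : ∀ a b, Commute (f a) (f' b)) (χ : AddChar A ℂ) {χ' : AddChar A' ℂ} {x : M}
    (hx : x ∈ eig φ f' χ') : proj φ f χ x ∈ eig φ f' χ' := by
  rw [mem_eig] at hx ⊢
  intro b
  have e := proj_intertwine φ φ (f := f) (T := φ (f' b)) (fun a y => by
    rw [← Module.End.mul_apply, ← Module.End.mul_apply, ← map_mul, ← map_mul, (h a b).eq]) χ x
  rw [← e, hx b, map_smul]

theorem commute_proj_app {g : G} (h : ∀ a, Commute (f a) g) (χ : AddChar A ℂ) (x : M) :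
    proj φ f χ (φ g x) = φ g (proj φ f χ x) :=
  proj_intertwine φ φ (T := φ g) (fun a y => by
    rw [← Module.End.mul_apply, ← Module.End.mul_apply, ← map_mul, ← map_mul, (h a).eq]) χ x

theorem commute_proj (h : ∀ a b, Commute (f a) (f' b)) (χ : AddChar A ℂ) (χ' : AddChar A' ℂ) (x : M) :
    proj φ f χ (proj φ f' χ' x) = proj φ f' χ' (proj φ f χ x) :=
  (proj_intertwine φ φ (T := proj φ f χ) (fun b y => (commute_proj_app φ (fun a => h a b) χ y).symm) χ' x).symm

theorem proj_conj (g : G) {f'' : A → G} (h : ∀ a, g * f a * g⁻¹ = f'' a) (χ : AddChar A ℂ) (x : M) :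
    φ g (proj φ f χ x) = proj φ f'' χ (φ g x) := by
  have e : ∀ a, φ g (φ (f a) x) = φ (f'' a) (φ g x) := fun a => by
    rw [← Module.End.mul_apply, ← Module.End.mul_apply, ← map_mul, ← map_mul, ← h a]
    group
  simp [proj, e]

theorem exists_proj_ne (hf : ∀ a b, f (a + b) = f a * f b) {x : M} (hx : x ≠ 0) :
    ∃ χ : AddChar A ℂ, proj φ f χ x ≠ 0 := by
  by_contra hc
  push Not at hc
  have h0 : f 0 = 1 := by
    have := hf 0 0
    rw [add_zero] at this
    exact left_eq_mul.mp this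
  exact hx (by rw [← sum_proj_apply φ h0 x]; exact Finset.sum_eq_zero fun χ _ => hc χ)

end Proj

variable {F : Type u} [Field F] [Fintype F] {V : Type v} [AddCommGroup V] [Module F V]
  {B : LinearMap.BilinForm F V} (hA : B.IsAlt)
  {U : Type w} [AddCommGroup U] [Module ℂ U] (φ : BilinIsom B →* Module.End ℂ U) (ψ : AddChar F ℂ)

/-- Characters of isotropic planes have rank at most one. -/
def R1 : Prop :=
  ∀ ψ : AddChar F ℂ, ψ ≠ 1 → ∀ x w : V, B x w = 0 → ∀ u : U, u ≠ 0 → ∀ α β γ : F,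
    u ∈ eig φ (sympT hA x) (ψ.mulShift α) → u ∈ eig φ (sympT hA w) (ψ.mulShift β) →
    u ∈ eig φ (sh hA x w) (ψ.mulShift γ) → γ ^ 2 = 4 * α * β

/-- The eigenspace of the root subgroup of `x`. -/
def eX (x : V) : Submodule ℂ U := eig φ (sympT hA x) ψ

/-- The projection onto `eX x`. -/
noncomputable def pX (x : V) : Module.End ℂ U := proj φ (sympT hA x) ψ

/-- The projection onto the joint eigenspace of a pair. -/
noncomputable def pJ (x w : V) : Module.End ℂ U :=
  pX hA φ ψ x * proj φ (sh hA x w) (ψ.mulShift 2)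

/-- The joint eigenspace of a pair. -/
def eJ (x w : V) : Submodule ℂ U := eX hA φ ψ x ⊓ eig φ (sh hA x w) (ψ.mulShift 2)

variable {hA φ ψ}

theorem mulShift_inj' (hψ : ψ ≠ 1) {a b : F} (h : ψ.mulShift a = ψ.mulShift b) : a = b :=
  AddChar.to_mulShift_inj_of_isPrimitive (AddChar.IsPrimitive.of_ne_one hψ) h

theorem one_eq_shift : (1 : AddChar F ℂ) = ψ.mulShift 0 := (AddChar.mulShift_zero ψ).symm

theorem self_eq_shift : ψ = ψ.mulShift 1 := (AddChar.mulShift_one ψ).symm

theorem mem_eX {x : V} {u : U} : u ∈ eX hA φ ψ x ↔ ∀ c, φ (sympT hA x c) u = ψ c • u := mem_eig φ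

theorem pX_mem (x : V) (u : U) : pX hA φ ψ x u ∈ eX hA φ ψ x :=
  proj_mem_eig φ (fun a b => sympT_add hA x a b) ψ u

theorem pX_self {x : V} {u : U} (h : u ∈ eX hA φ ψ x) : pX hA φ ψ x u = u :=
  proj_self φ (fun a b => sympT_add hA x a b) h

theorem pX_conj (g : BilinIsom B) (x : V) (u : U) :
    φ g (pX hA φ ψ x u) = pX hA φ ψ ((g : V ≃ₗ[F] V) x) (φ g u) :=
  proj_conj φ g (fun a => sympT_conj hA g x a) ψ u

theorem eX_conj {g : BilinIsom B} {x : V} {u : U} (h : u ∈ eX hA φ ψ x) :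
    φ g u ∈ eX hA φ ψ ((g : V ≃ₗ[F] V) x) := by
  rw [← pX_self h, pX_conj]
  exact pX_mem _ _

theorem pJ_conj (g : BilinIsom B) (x w : V) (u : U) :
    φ g (pJ hA φ ψ x w u) = pJ hA φ ψ ((g : V ≃ₗ[F] V) x) ((g : V ≃ₗ[F] V) w) (φ g u) := by
  simp only [pJ, Module.End.mul_apply, pX_conj]
  rw [proj_conj φ g (fun a => conj_sh g x w a)]

theorem sh_comm_sympT {x w : V} (h : B x w = 0) (a b : F) : Commute (sympT hA x a) (sh hA x w b) :=
  (root_commute hA (sh_centre h b) a).symm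

theorem pX_sh {x w : V} (h : B x w = 0) (l : F) (u : U) :
    pX hA φ ψ x (φ (sh hA x w l) u) = φ (sh hA x w l) (pX hA φ ψ x u) :=
  commute_proj_app φ (fun a => sh_comm_sympT h a l) ψ u

theorem sh_mem_eX {x w : V} (h : B x w = 0) (l : F) {u : U} (hu : u ∈ eX hA φ ψ x) :
    φ (sh hA x w l) u ∈ eX hA φ ψ x := by
  have := eX_conj (g := sh hA x w l) hu
  rwa [sh_centre h] at this

theorem pJ_mem {x w : V} (h : B x w = 0) (u : U) : pJ hA φ ψ x w u ∈ eJ hA φ ψ x w :=
  Submodule.mem_inf.mpr ⟨pX_mem _ _, proj_mem_eig_comm φ (fun a b => sh_comm_sympT h a b) ψ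
    (proj_mem_eig φ (fun a b => sh_add h a b) _ u)⟩

theorem pJ_self {x w : V} (h : B x w = 0) {u : U} (hu : u ∈ eJ hA φ ψ x w) : pJ hA φ ψ x w u = u := by
  obtain ⟨h1, h2⟩ := Submodule.mem_inf.mp hu
  rw [pJ, Module.End.mul_apply, proj_self φ (fun a b => sh_add h a b) h2, pX_self h1]

theorem pJ_comm {x w a b : V} (h : B x w = 0) (hab : B a b = 0) (h1 : B a x = 0) (h2 : B a w = 0)
    (h3 : B b x = 0) (h4 : B b w = 0) (u : U) :
    pJ hA φ ψ x w (pJ hA φ ψ a b u) = pJ hA φ ψ a b (pJ hA φ ψ x w u) := by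
  have h1' : B x a = 0 := by rw [swap hA, h1, neg_zero]
  have h3' : B x b = 0 := by rw [swap hA, h3, neg_zero]
  simp only [pJ, pX, Module.End.mul_apply]
  rw [commute_proj φ (f := sh hA x w) (f' := sympT hA a) (fun l c => commute_sh_sympT h h1 h2 l c),
    commute_proj φ (f := sympT hA x) (f' := sympT hA a) (fun l c => sympT_commute hA h1' l c),
    commute_proj φ (f := sh hA x w) (f' := sh hA a b) (fun l c => commute_sh_sh hab h h1 h2 h3 h4 l c),
    commute_proj φ (f := sympT hA x) (f' := sh hA a b)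
      (fun l c => (commute_sh_sympT hab h1' h3' c l).symm)]

theorem eig_sympT_smul {x : V} {u : U} {α : F} (hu : u ∈ eig φ (sympT hA x) (ψ.mulShift α)) (a : F) :
    u ∈ eig φ (sympT hA (a • x)) (ψ.mulShift (α * a ^ 2)) :=
  (mem_eig φ).mpr fun c => by
    rw [sympT_smul, (mem_eig φ).mp hu, AddChar.mulShift_apply, AddChar.mulShift_apply, mul_assoc]

theorem comb_apply {x w : V} (h : B x w = 0) {u : U} {α β γ : F}
    (h1 : u ∈ eig φ (sympT hA x) (ψ.mulShift α)) (h2 : u ∈ eig φ (sympT hA w) (ψ.mulShift β))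
    (h3 : u ∈ eig φ (sh hA x w) (ψ.mulShift γ)) (a b : F) :
    u ∈ eig φ (sympT hA (a • x + b • w)) (ψ.mulShift (α * a ^ 2 + γ * a * b + β * b ^ 2)) := by
  refine (mem_eig φ).mpr fun c => ?_
  rw [sympT_comb h, map_mul, map_mul, Module.End.mul_apply, Module.End.mul_apply, (mem_eig φ).mp h3,
    map_smul, (mem_eig φ).mp h2, map_smul, map_smul, (mem_eig φ).mp h1, smul_smul, smul_smul]
  congr 1
  simp only [AddChar.mulShift_apply, ← AddChar.map_add_eq_mul]
  congr 1
  ring

variable (hR : R1 hA φ) (hψ : ψ ≠ 1)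

include hR hψ in
/-- The transvections of `w` are determined on an eigenvector of the short root subgroup. -/
theorem eig_of_sh (h2 : (2 : F) ≠ 0) {x w : V} (h : B x w = 0) {u : U} (hu : u ∈ eX hA φ ψ x) {γ : F}
    (hγ : u ∈ eig φ (sh hA x w) (ψ.mulShift γ)) :
    u ∈ eig φ (sympT hA w) (ψ.mulShift (γ ^ 2 / 4)) := by
  refine eig_of_proj φ (fun a b => sympT_add hA w a b) fun χ hχ => ?_
  obtain ⟨β, hβ⟩ := exists_mulShift hψ χ
  obtain rfl : χ = ψ.mulShift β := DFunLike.ext _ _ fun c => by rw [hβ, AddChar.mulShift_apply]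
  by_contra hne
  have hc : ∀ c a, Commute (sympT hA w c) (sh hA x w a) := fun c a =>
    (root_commute hA (sh_fix h (by rw [swap hA, h, neg_zero]) (hA w) a) c).symm
  have hx : proj φ (sympT hA w) (ψ.mulShift β) u ∈ eig φ (sympT hA x) (ψ.mulShift 1) := by
    rw [← self_eq_shift]
    exact proj_mem_eig_comm φ (fun a c => sympT_commute hA (by rw [swap hA, h, neg_zero]) a c) _ hu
  have e := hR ψ hψ x w h _ hne 1 β γ hx (proj_mem_eig φ (fun a b => sympT_add hA w a b) _ u)
    (proj_mem_eig_comm φ hc _ hγ)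
  refine hχ (congrArg _ ?_)
  have h4 : (4 : F) ≠ 0 := by rw [show (4 : F) = 2 * 2 by norm_num]; exact mul_ne_zero h2 h2
  field_simp
  linear_combination -e

include hR hψ in
/-- A vector fixed by the transvections of `z` is fixed by its short root subgroups. -/
theorem sh_fixed {z a : V} (h : B z a = 0) {u : U} (hu : ∀ c, φ (sympT hA z c) u = u) (l : F) :
    φ (sh hA z a l) u = u := by
  suffices hs : u ∈ eig φ (sh hA z a) (ψ.mulShift 0) by
    have := (mem_eig φ).mp hs l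
    rwa [← one_eq_shift, AddChar.one_apply, one_smul] at this
  refine eig_of_proj φ (fun a b => sh_add h a b) fun χ hχ => ?_
  obtain ⟨γ, hγ⟩ := exists_mulShift hψ χ
  obtain rfl : χ = ψ.mulShift γ := DFunLike.ext _ _ fun c => by rw [hγ, AddChar.mulShift_apply]
  by_contra hne
  obtain ⟨χ', hχ'⟩ := exists_proj_ne φ (f := sympT hA a) (fun p q => sympT_add hA a p q) hne
  obtain ⟨β, hβ⟩ := exists_mulShift hψ χ'
  obtain rfl : χ' = ψ.mulShift β := DFunLike.ext _ _ fun c => by rw [hβ, AddChar.mulShift_apply]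
  have h0 : u ∈ eig φ (sympT hA z) (ψ.mulShift 0) := (mem_eig φ).mpr fun c => by
    rw [hu c, ← one_eq_shift, AddChar.one_apply, one_smul]
  have e := hR ψ hψ z a h _ hχ' 0 β γ
    (proj_mem_eig_comm φ (fun p c => sympT_commute hA (by rw [swap hA, h, neg_zero]) p c) _
      (proj_mem_eig_comm φ (fun p c => (sh_comm_sympT h c p).symm) _ h0))
    (proj_mem_eig φ (fun p q => sympT_add hA a p q) _ _)
    (proj_mem_eig_comm φ (fun p l => (root_commute hA
      (sh_fix h (by rw [swap hA, h, neg_zero]) (hA a) l) p).symm) _ (proj_mem_eig φ (fun p q => sh_add h p q) _ u))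
  rw [mul_zero, zero_mul] at e
  exact hχ (congrArg _ (pow_eq_zero_iff two_ne_zero |>.mp e))

include hR hψ in
theorem eJ_symm (h2 : (2 : F) ≠ 0) {x w : V} (h : B x w = 0) {u : U} (hu : u ∈ eJ hA φ ψ x w) :
    u ∈ eJ hA φ ψ w x := by
  obtain ⟨h1, h3⟩ := Submodule.mem_inf.mp hu
  refine Submodule.mem_inf.mpr ⟨?_, ?_⟩
  · have := eig_of_sh hR hψ h2 h h1 h3
    rwa [show (2 : F) ^ 2 / 4 = 1 by
      rw [show (4 : F) = 2 ^ 2 by norm_num, div_self (pow_ne_zero _ h2)], ← self_eq_shift] at this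
  · rw [show sh hA w x = sh hA x w from funext fun l => sh_symm h l]
    exact h3

include hR hψ in
/-- On the joint eigenspace of `x`, `w` their short root subgroups agree. -/
theorem eJ_transfer (h2 : (2 : F) ≠ 0) {x w a : V} (h : B x w = 0) (hx : B x a = 0) (hw : B w a = 0)
    {u : U} (hu : u ∈ eJ hA φ ψ x w) (l : F) : φ (sh hA x a l) u = φ (sh hA w a l) u := by
  obtain ⟨h1, h3⟩ := Submodule.mem_inf.mp hu
  have h4 := (Submodule.mem_inf.mp (eJ_symm hR hψ h2 h hu)).1
  set z := x - w with hz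
  have hzu : ∀ c, φ (sympT hA z c) u = u := fun c => by
    have := (mem_eig φ).mp (comb_apply (ψ := ψ) h (u := u) (α := 1) (β := 1) (γ := 2)
      (by rw [← self_eq_shift]; exact h1) (by rw [← self_eq_shift]; exact h4) h3 1 (-1)) c
    rw [one_smul, neg_one_smul, ← sub_eq_add_neg, ← hz,
      show (1 : F) * 1 ^ 2 + 2 * 1 * (-1) + 1 * (-1) ^ 2 = 0 by ring, ← one_eq_shift, AddChar.one_apply,
      one_smul] at this
    exact this
  have hza : B z a = 0 := by rw [hz, map_sub, LinearMap.sub_apply, hx, hw, sub_zero]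
  have hwz : B w z = 0 := by rw [hz, map_sub, swap hA w x, h, hA w, neg_zero, sub_zero]
  conv_lhs => rw [show x = w + z by rw [hz, add_sub_cancel]]
  rw [sh_add_left hw hza hwz, map_mul, Module.End.mul_apply, sh_fixed hR hψ hza hzu]

include hR hψ in
theorem pJ_eq_of_mem (h2 : (2 : F) ≠ 0) {x w a b : V} (h : B x w = 0) (hab : B a b = 0) (h1 : B a x = 0)
    (h2' : B a w = 0) (h3 : B b x = 0) (h4 : B b w = 0)
    (hle : ∀ u ∈ eJ hA φ ψ x w, u ∈ eJ hA φ ψ a b) (hge : ∀ u ∈ eJ hA φ ψ a b, u ∈ eJ hA φ ψ x w) (u : U) :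
    pJ hA φ ψ x w u = pJ hA φ ψ a b u := by
  have e1 := pJ_self h (hge _ (pJ_mem hab u))
  rw [pJ_comm h hab h1 h2' h3 h4, pJ_self hab (hle _ (pJ_mem h u))] at e1
  exact e1

include hR hψ in
theorem pJ_symm (h2 : (2 : F) ≠ 0) {x w : V} (h : B x w = 0) (u : U) :
    pJ hA φ ψ x w u = pJ hA φ ψ w x u := by
  have h' : B w x = 0 := by rw [swap hA, h, neg_zero]
  exact pJ_eq_of_mem hR hψ h2 h h' h' (hA w) (hA x) h (fun _ => eJ_symm hR hψ h2 h)
    (fun _ => eJ_symm hR hψ h2 h') u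

include hR hψ in
/-- Along the line through `x` and `w`, seen from `w`. -/
theorem pJ_line (h2 : (2 : F) ≠ 0) {w x : V} (h : B w x = 0) {a : F} (ha : a ≠ 1) (u : U) :
    pJ hA φ ψ w (a • w + (1 - a) • x) u = pJ hA φ ψ w x u := by
  have key : ∀ (c : F) (b : V), B w b = 0 → ∀ u ∈ eJ hA φ ψ w b, u ∈ eJ hA φ ψ w (c • w + (1 - c) • b) := by
    intro c b hb u hu
    obtain ⟨h1, h3⟩ := Submodule.mem_inf.mp hu
    refine Submodule.mem_inf.mpr ⟨h1, (mem_eig φ).mpr fun l => ?_⟩
    rw [sh_add_right (by simp [hA w]) (by simp [hb]) (by simp [hb]), sh_self, sh_smul hb, map_mul,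
      Module.End.mul_apply, (mem_eig φ).mp h3, map_smul, (mem_eX.mp h1), smul_smul]
    congr 1
    simp only [AddChar.mulShift_apply, ← AddChar.map_add_eq_mul]
    congr 1
    ring
  set y := a • w + (1 - a) • x with hy
  have h' : B x w = 0 := by rw [swap hA, h, neg_zero]
  have hwy : B w y = 0 := by simp [hy, hA w, h]
  have hyx : B y x = 0 := by simp [hy, hA x, h]
  have hyw : B y w = 0 := by rw [swap hA, hwy, neg_zero]
  have hb : (1 - a) ≠ 0 := sub_ne_zero.mpr (Ne.symm ha)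
  refine pJ_eq_of_mem hR hψ h2 hwy h (hA w) hwy h' (by rw [swap hA, hyx, neg_zero]) (fun u hu => ?_)
    (fun u hu => key a x h u hu) u
  have e := key (-a / (1 - a)) y hwy u hu
  rwa [show (-a / (1 - a)) • w + (1 - -a / (1 - a)) • y = x by
    rw [hy, smul_add, smul_smul, smul_smul, ← add_assoc, ← add_smul]
    rw [show (-a / (1 - a)) + (1 - -a / (1 - a)) * a = 0 by field_simp; ring,
      show (1 - -a / (1 - a)) * (1 - a) = 1 by field_simp; ring, zero_smul, zero_add, one_smul]] at e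

end Cfsg.Lib.SpWeil
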