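import Mathlib
import Cfsg.Agent.Known.SpWeil.Plane

/-! Heisenberg equivariant maps between the eigenspaces of root subgroups in two representations. -/

set_option autoImplicit false
set_option linter.unusedSectionVars false
set_option linter.style.haveILetI false

open Cfsg.Lib.Classical Cfsg.Lib.SpMinDeg Cfsg.Lib.RepEigen

namespace Cfsg.Lib.SpWeil

universe u v w w'

variable {F : Type u} [Field F] [Fintype F] {V : Type v} [AddCommGroup V] [Module F V] [FiniteDimensional F V]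
  {B : LinearMap.BilinForm F V} {hA : B.IsAlt}
  {U : Type w} [AddCommGroup U] [Module ℂ U] [FiniteDimensional ℂ U] {φ : BilinIsom B →* Module.End ℂ U}
  {U' : Type w'} [AddCommGroup U'] [Module ℂ U'] [FiniteDimensional ℂ U']
  {φ' : BilinIsom B →* Module.End ℂ U'} {ψ : AddChar F ℂ}

variable (hA φ φ' ψ) in
/-- A map between the eigenspaces of `x` commuting with the short root subgroups through `x`. -/
structure IsHx (x : V) (f : U →ₗ[ℂ] U') : Prop where
  left : ∀ u, pX hA φ' ψ x (f u) = f u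
  right : ∀ u, f (pX hA φ ψ x u) = f u
  sh : ∀ a, B x a = 0 → ∀ l u, φ' (sh hA x a l) (f u) = f (φ (sh hA x a l) u)

theorem phi_cancel {M : Type*} [AddCommGroup M] [Module ℂ M] {χ : BilinIsom B →* Module.End ℂ M}
    (g : BilinIsom B) (x : M) : χ g⁻¹ (χ g x) = x := by
  rw [← Module.End.mul_apply, ← map_mul, inv_mul_cancel, map_one, Module.End.one_apply]

variable (hR : R1 hA φ) (hR' : R1 hA φ') (hψ : ψ ≠ 1) (h2 : (2 : F) ≠ 0) (hB : B.Nondegenerate)

theorem IsHx.mem {x : V} {f : U →ₗ[ℂ] U'} (hf : IsHx hA φ φ' ψ x f) (u : U) : f u ∈ eX hA φ' ψ x := by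
  rw [← hf.left]
  exact pX_mem _ _

theorem IsHx.pJ {x w : V} (h : B x w = 0) {f : U →ₗ[ℂ] U'} (hf : IsHx hA φ φ' ψ x f) (u : U) :
    pJ hA φ' ψ x w (f u) = f (pJ hA φ ψ x w u) := by
  rw [SpWeil.pJ, SpWeil.pJ, Module.End.mul_apply, Module.End.mul_apply,
    proj_intertwine φ φ' (f := SpWeil.sh hA x w) (fun l => hf.sh w h l), hf.left, hf.right]

include hR hR' hψ h2 in
theorem IsHx.commute_sympT {x w : V} (h : B x w = 0) {f : U →ₗ[ℂ] U'} (hf : IsHx hA φ φ' ψ x f) (c : F)
    (u : U) : φ' (sympT hA w c) (f u) = f (φ (sympT hA w c) u) := by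
  have hc : ∀ a, Commute (sympT hA x a) (sympT hA w c) := fun a => sympT_commute hA h a c
  have e : pX hA φ ψ x (φ (sympT hA w c) u) = φ (sympT hA w c) (pX hA φ ψ x u) :=
    commute_proj_app φ hc ψ u
  rw [← hf.right u, ← hf.right (φ (sympT hA w c) u), e]
  rw [← sum_proj_apply φ (sh_zero (hA := hA) h) (pX hA φ ψ x u)]
  simp only [map_sum]
  refine Finset.sum_congr rfl fun χ _ => ?_
  obtain ⟨γ, hγ⟩ := exists_mulShift hψ χ
  obtain rfl : χ = ψ.mulShift γ := DFunLike.ext _ _ fun c => by rw [hγ, AddChar.mulShift_apply]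
  set y := proj φ (SpWeil.sh hA x w) (ψ.mulShift γ) (pX hA φ ψ x u)
  have hy : y ∈ eig φ (SpWeil.sh hA x w) (ψ.mulShift γ) := proj_mem_eig φ (fun a b => sh_add h a b) _ _
  have hyx : y ∈ eX hA φ ψ x := proj_mem_eig_comm φ (fun l a => (sh_comm_sympT h a l).symm) _ (pX_mem x u)
  have hfy : f y ∈ eig φ' (SpWeil.sh hA x w) (ψ.mulShift γ) := (mem_eig φ').mpr fun l => by
    rw [hf.sh w h, (mem_eig φ).mp hy, map_smul]
  rw [(mem_eig φ').mp (eig_of_sh hR' hψ h2 h (hf.mem y) hfy) c,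
    (mem_eig φ).mp (eig_of_sh hR hψ h2 h hyx hy) c, map_smul]

include hR hR' hψ h2 hB in
theorem IsHx.commute_fix {x : V} {f : U →ₗ[ℂ] U'} (hf : IsHx hA φ φ' ψ x f) {g : BilinIsom B}
    (hg : (g : V ≃ₗ[F] V) x = x) (u : U) : φ' g (f u) = f (φ g u) := by
  have hm := fix_mem_transGroupOn hA hB _ (Submodule.span F {x}) g rfl fun z hz => by
    obtain ⟨r, rfl⟩ := Submodule.mem_span_singleton.mp hz
    rw [map_smul, hg]
  clear hg
  induction hm using Subgroup.closure_induction generalizing u with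
  | mem t ht =>
    obtain ⟨v, hv, c, rfl⟩ := ht
    exact hf.commute_sympT hR hR' hψ h2 (hv x (Submodule.mem_span_singleton_self x)) c u
  | one => simp
  | mul a b _ _ ha hb => rw [map_mul, map_mul, Module.End.mul_apply, Module.End.mul_apply, hb, ha]
  | inv a _ ha =>
    have := ha (φ a⁻¹ u)
    rw [← Module.End.mul_apply (φ a), ← map_mul, mul_inv_cancel, map_one, Module.End.one_apply] at this
    rw [← this, phi_cancel]

theorem IsHx.conj {x : V} {f : U →ₗ[ℂ] U'} (hf : IsHx hA φ φ' ψ x f) (g : BilinIsom B) :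
    IsHx hA φ φ' ψ ((g : V ≃ₗ[F] V) x) ((φ' g) ∘ₗ f ∘ₗ (φ g⁻¹)) where
  left u := by
    simp only [LinearMap.comp_apply]
    rw [← pX_conj, hf.left]
  right u := by
    simp only [LinearMap.comp_apply]
    rw [pX_conj, BilinIsom.inv_apply_self, hf.right]
  sh a ha l u := by
    simp only [LinearMap.comp_apply]
    obtain ⟨b, rfl⟩ := (g : V ≃ₗ[F] V).surjective a
    rw [BilinIsom.map_form] at ha
    have e : SpWeil.sh hA ((g : V ≃ₗ[F] V) x) ((g : V ≃ₗ[F] V) b) l = g * SpWeil.sh hA x b l * g⁻¹ :=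
      (conj_sh g x b l).symm
    have e2 : g⁻¹ * SpWeil.sh hA ((g : V ≃ₗ[F] V) x) ((g : V ≃ₗ[F] V) b) l = SpWeil.sh hA x b l * g⁻¹ := by
      rw [e]; group
    rw [← Module.End.mul_apply (φ g⁻¹), ← map_mul, e2, map_mul, Module.End.mul_apply, ← hf.sh b ha l, e,
      map_mul, map_mul, Module.End.mul_apply, Module.End.mul_apply, phi_cancel]

section Avg

variable (B) in
/-- The hyperplane orthogonal to `x`. -/
abbrev perp (x : V) : Submodule F V := LinearMap.ker (B x)

variable [Fintype V]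

variable (hA φ φ') in
open scoped _root_.Classical in
/-- The average over the short root subgroups through `x`. -/
noncomputable def avg (x : V) (T : U →ₗ[ℂ] U') : U →ₗ[ℂ] U' :=
  ∑ z : perp B x, (φ' (sh hA x (z : V) 1)) ∘ₗ T ∘ₗ (φ (sh hA x (z : V) 1)⁻¹)

theorem perp_mem {x : V} (z : perp B x) : B x (z : V) = 0 := LinearMap.mem_ker.mp z.2

open scoped _root_.Classical in
theorem avg_apply (x : V) (T : U →ₗ[ℂ] U') (u : U) :
    avg hA φ φ' x T u = ∑ z : perp B x, φ' (sh hA x (z : V) 1) (T (φ (sh hA x (z : V) 1)⁻¹ u)) := by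
  simp [avg, LinearMap.sum_apply]

theorem isHx_avg {x : V} {T : U →ₗ[ℂ] U'} (h1 : ∀ u, pX hA φ' ψ x (T u) = T u)
    (h3 : ∀ u, T (pX hA φ ψ x u) = T u) : IsHx hA φ φ' ψ x (avg hA φ φ' x T) where
  left u := by
    classical
    simp only [avg_apply, map_sum]
    refine Finset.sum_congr rfl fun z _ => ?_
    rw [pX_sh (perp_mem z), h1]
  right u := by
    classical
    simp only [avg_apply]
    refine Finset.sum_congr rfl fun z _ => ?_
    rw [← sh_neg (perp_mem z), ← pX_sh (perp_mem z), h3]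
  sh a ha l u := by
    classical
    suffices key : ∀ b : perp B x, φ' (SpWeil.sh hA x (b : V) 1) (avg hA φ φ' x T u) =
        avg hA φ φ' x T (φ (SpWeil.sh hA x (b : V) 1) u) by
      have := key ⟨l • a, by simp [ha]⟩
      rwa [sh_smul ha, mul_one] at this
    intro b
    simp only [avg_apply, map_sum]
    refine Fintype.sum_equiv (Equiv.addLeft b) _ _ fun z => ?_
    rw [Equiv.coe_addLeft, Submodule.coe_add]
    have e := sh_mul_sh (hA := hA) (perp_mem b) (perp_mem z)
    set t := sympT hA x (-B (b : V) z)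
    have e' : (SpWeil.sh hA x (z : V) 1)⁻¹ = t⁻¹ * (SpWeil.sh hA x ((b : V) + z) 1)⁻¹ *
        SpWeil.sh hA x (b : V) 1 := by
      rw [← mul_inv_rev, ← e, mul_inv_rev, inv_mul_cancel_right]
    rw [← Module.End.mul_apply, ← map_mul, e, e', map_mul, Module.End.mul_apply, map_mul, map_mul,
      Module.End.mul_apply, Module.End.mul_apply]
    generalize φ (SpWeil.sh hA x ((b : V) + z) 1)⁻¹ (φ (SpWeil.sh hA x (b : V) 1) u) = y
    rw [← h3 (φ t⁻¹ y), pX, commute_proj_app φ (fun c => (sympT_commute hA (hA x) c _).inv_right), ← pX]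
    rw [show φ t⁻¹ (pX hA φ ψ x y) = ψ (B (b : V) z) • pX hA φ ψ x y by
      rw [show t⁻¹ = sympT hA x (B (b : V) z) by rw [← sympT_neg, neg_neg]]
      exact mem_eX.mp (pX_mem x y) _]
    rw [map_smul, map_smul, map_smul, h3]
    rw [show φ' t (T y) = ψ (-B (b : V) z) • T y by
      have := mem_eX.mp (h1 y ▸ pX_mem (hA := hA) (φ := φ') (ψ := ψ) x (T y)) (-B (b : V) z)
      exact this]
    rw [map_smul, smul_smul, ← AddChar.map_add_eq_mul, add_neg_cancel, AddChar.map_zero_eq_one, one_smul]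

include hψ h2 in
/-- Off the span of `x` the averaged operators have trace zero. -/
theorem trace_sh_pX (hB : B.Nondegenerate) {x z : V} (hz : B x z = 0) (hzn : z ∉ Submodule.span F ({x} : Set V)) :
    LinearMap.trace ℂ U' (φ' (sh hA x z 1) * pX hA φ' ψ x) = 0 := by
  obtain ⟨d, hd, hzd⟩ := exists_nonorth_of_notMem hA hB _ hzn
  obtain ⟨c, hc⟩ := DFunLike.ne_iff.mp hψ
  have hxd : B x d = 0 := hd x (Submodule.mem_span_singleton_self x)
  set l := c / (2 * B z d) with hl
  have e : sh hA x d l * sh hA x z 1 * (sh hA x d l)⁻¹ = sh hA x z 1 * sympT hA x c := by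
    rw [mul_inv_eq_iff_eq_mul, sh_shift hz hxd l,
      show 2 * l * B z d = c by rw [hl]; field_simp, mul_assoc, mul_assoc, (sh_comm_sympT hxd c l).eq]
  set P := pX hA φ' ψ x with hP
  set S := φ' (sh hA x d l)
  set S' := φ' (sh hA x d l)⁻¹
  have hSP : S * P = P * S := LinearMap.ext fun u => (pX_sh hxd l u).symm
  have hTP : φ' (sympT hA x c) * P = ψ c • P := LinearMap.ext fun u => mem_eX.mp (pX_mem x u) c
  have hSS : S' * S = 1 := by rw [← map_mul, inv_mul_cancel, map_one]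
  have h1 : LinearMap.trace ℂ U' (S * (φ' (sh hA x z 1) * P) * S') =
      LinearMap.trace ℂ U' (φ' (sh hA x z 1) * P) := by
    rw [LinearMap.trace_mul_comm, ← mul_assoc, hSS, one_mul]
  have h1' : S * (φ' (sh hA x z 1) * P) * S' = ψ c • (φ' (sh hA x z 1) * P) := by
    have hS'P : P * S' = S' * P := by
      calc P * S' = S' * S * P * S' := by rw [hSS, one_mul]
        _ = S' * (P * (S * S')) := by rw [mul_assoc _ S P, hSP]; simp only [mul_assoc]
        _ = S' * P := by rw [← map_mul φ', mul_inv_cancel, map_one, mul_one]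
    rw [← mul_assoc, mul_assoc _ P S', hS'P, ← mul_assoc, ← map_mul, ← map_mul, e, map_mul,
      mul_assoc, hTP, mul_smul_comm]
  rw [h1', map_smul, smul_eq_mul] at h1
  by_contra h0
  exact hc (by rw [AddChar.one_apply]; exact mul_right_cancel₀ h0 (by rw [h1, one_mul]))

theorem pX_idem (x : V) : pX hA φ ψ x * pX hA φ ψ x = pX hA φ ψ x :=
  LinearMap.ext fun u => pX_self (pX_mem x u)

theorem trace_pX (x : V) :
    LinearMap.trace ℂ U (pX hA φ ψ x) = (Module.finrank ℂ (eX hA φ ψ x) : ℂ) :=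
  LinearMap.IsProj.trace ⟨pX_mem x, fun _ h => pX_self h⟩

include hψ h2 hB in
theorem exists_avg_ne_zero {x : V} (hE : eX hA φ ψ x ≠ ⊥) (hE' : eX hA φ' ψ x ≠ ⊥) :
    ∃ T : U →ₗ[ℂ] U', (∀ u, pX hA φ' ψ x (T u) = T u) ∧ (∀ u, T (pX hA φ ψ x u) = T u) ∧
      avg hA φ φ' x T ≠ 0 := by
  classical
  by_contra hc
  push Not at hc
  let b := Module.finBasis ℂ U
  let b' := Module.finBasis ℂ U'
  have key : ∀ i j, ∑ z : perp B x,
      b.coord i ((pX hA φ ψ x * φ (sh hA x (z : V) 1)⁻¹) (b i)) *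
        b'.coord j ((φ' (sh hA x (z : V) 1) * pX hA φ' ψ x) (b' j)) = 0 := by
    intro i j
    have h := hc (((b.coord i) ∘ₗ pX hA φ ψ x).smulRight (pX hA φ' ψ x (b' j)))
      (fun u => by simp [pX_self (pX_mem (hA := hA) (φ := φ') (ψ := ψ) x (b' j))])
      (fun u => by simp [pX_self (pX_mem (hA := hA) (φ := φ) (ψ := ψ) x u)])
    have := congrArg (fun f : U →ₗ[ℂ] U' => b'.coord j (f (b i))) h
    simpa [avg_apply] using this
  have tr : ∀ (n : ℕ) {M : Type w} [AddCommGroup M] [Module ℂ M] (c : Module.Basis (Fin n) ℂ M) (X : Module.End ℂ M),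
      LinearMap.trace ℂ M X = ∑ i, c.coord i (X (c i)) := fun n M _ _ c X => by
    rw [LinearMap.trace_eq_matrix_trace ℂ c, Matrix.trace]
    simp [LinearMap.toMatrix_apply]
  have tr' : ∀ X : Module.End ℂ U', LinearMap.trace ℂ U' X = ∑ i, b'.coord i (X (b' i)) := fun X => by
    rw [LinearMap.trace_eq_matrix_trace ℂ b', Matrix.trace]
    simp [LinearMap.toMatrix_apply]
  have h0 : ∑ z : perp B x, LinearMap.trace ℂ U (pX hA φ ψ x * φ (sh hA x (z : V) 1)⁻¹) *
      LinearMap.trace ℂ U' (φ' (sh hA x (z : V) 1) * pX hA φ' ψ x) = 0 := by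
    simp only [tr _ b, tr', Finset.sum_mul_sum]
    rw [Finset.sum_comm]
    refine Finset.sum_eq_zero fun i _ => ?_
    rw [Finset.sum_comm]
    exact Finset.sum_eq_zero fun j _ => key i j
  have hterm : ∀ z : perp B x, LinearMap.trace ℂ U (pX hA φ ψ x * φ (sh hA x (z : V) 1)⁻¹) *
      LinearMap.trace ℂ U' (φ' (sh hA x (z : V) 1) * pX hA φ' ψ x) =
      if (z : V) ∈ Submodule.span F ({x} : Set V) then
        LinearMap.trace ℂ U (pX hA φ ψ x) * LinearMap.trace ℂ U' (pX hA φ' ψ x) else 0 := by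
    intro z
    split_ifs with hz
    · obtain ⟨a, ha⟩ := Submodule.mem_span_singleton.mp hz
      rw [← ha, sh_self, ← sympT_neg, LinearMap.trace_mul_comm]
      rw [show φ (sympT hA x (-(2 * a * 1))) * pX hA φ ψ x = ψ (-(2 * a * 1)) • pX hA φ ψ x from
          LinearMap.ext fun u => mem_eX.mp (pX_mem x u) _,
        show φ' (sympT hA x (2 * a * 1)) * pX hA φ' ψ x = ψ (2 * a * 1) • pX hA φ' ψ x from
          LinearMap.ext fun u => mem_eX.mp (pX_mem x u) _, map_smul, map_smul, smul_eq_mul, smul_eq_mul,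
        mul_mul_mul_comm, ← AddChar.map_add_eq_mul, neg_add_cancel, AddChar.map_zero_eq_one, one_mul]
    · rw [trace_sh_pX hψ h2 hB (perp_mem z) hz, mul_zero]
  rw [Finset.sum_congr rfl (fun z _ => hterm z), ← Finset.sum_filter, Finset.sum_const, nsmul_eq_mul,
    mul_eq_zero, mul_eq_zero, trace_pX, trace_pX, Nat.cast_eq_zero, Nat.cast_eq_zero, Nat.cast_eq_zero,
    Finset.card_eq_zero, Submodule.finrank_eq_zero, Submodule.finrank_eq_zero] at h0
  rcases h0 with h | h | h
  · exact absurd h (Finset.ne_empty_of_mem (a := (0 : perp B x)) (by simp))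
  · exact hE h
  · exact hE' h

include hψ h2 hB in
theorem exists_isHx {x : V} (hE : eX hA φ ψ x ≠ ⊥) (hE' : eX hA φ' ψ x ≠ ⊥) :
    ∃ f : U →ₗ[ℂ] U', IsHx hA φ φ' ψ x f ∧ f ≠ 0 := by
  obtain ⟨T, h1, h3, hne⟩ := exists_avg_ne_zero hψ h2 hB hE hE'
  exact ⟨_, isHx_avg h1 h3, hne⟩

end Avg

include hψ h2 hB in
theorem IsHx.eq_zero_of_pJ {x w : V} (h : B x w = 0) (hi : LinearIndependent F ![x, w]) {f : U →ₗ[ℂ] U'}
    (hf : IsHx hA φ φ' ψ x f) (h0 : ∀ u, f (SpWeil.pJ hA φ ψ x w u) = 0) : f = 0 := by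
  obtain ⟨z, hz, hzw⟩ := exists_orth_one hA hB hi
  refine LinearMap.ext fun u => ?_
  rw [LinearMap.zero_apply, ← hf.right u, ← sum_proj_apply φ (sh_zero (hA := hA) h) (pX hA φ ψ x u), map_sum]
  refine Finset.sum_eq_zero fun χ _ => ?_
  obtain ⟨γ, hγ⟩ := exists_mulShift hψ χ
  obtain rfl : χ = ψ.mulShift γ := DFunLike.ext _ _ fun c => by rw [hγ, AddChar.mulShift_apply]
  set y := proj φ (SpWeil.sh hA x w) (ψ.mulShift γ) (pX hA φ ψ x u)
  have hyx : y ∈ eX hA φ ψ x := proj_mem_eig_comm φ (fun l a => (sh_comm_sympT h a l).symm) _ (pX_mem x u)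
  have hy : y ∈ eig φ (SpWeil.sh hA x w) (ψ.mulShift γ) := proj_mem_eig φ (fun a b => sh_add h a b) _ _
  set d := (2 - γ) / 2 with hd
  have hdz : B x (d • z) = 0 := by rw [map_smul, hz, smul_zero]
  have hm : φ (SpWeil.sh hA x (d • z) 1) y ∈ eJ hA φ ψ x w := by
    refine Submodule.mem_inf.mpr ⟨sh_mem_eX hdz 1 hyx, (mem_eig φ).mpr fun l => ?_⟩
    rw [← Module.End.mul_apply, ← map_mul, sh_shift hdz h, map_mul, map_mul, Module.End.mul_apply,
      Module.End.mul_apply, mem_eX.mp hyx, map_smul, (mem_eig φ).mp hy, smul_smul, map_smul]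
    congr 1
    simp only [AddChar.mulShift_apply, ← AddChar.map_add_eq_mul, map_smul, LinearMap.smul_apply, hzw,
      smul_eq_mul, mul_one, hd]
    congr 1
    field_simp
    ring
  have := h0 (φ (SpWeil.sh hA x (d • z) 1) y)
  rw [pJ_self h hm, ← hf.sh _ hdz] at this
  rw [← phi_cancel (χ := φ') (SpWeil.sh hA x (d • z) 1) (f y), this, map_zero]

include hψ h2 in
/-- Maps on the joint eigenspace of a pair extend to `x`. -/
theorem exists_lift {x w : V} (h : B x w = 0) {t : U →ₗ[ℂ] U'} (h1 : ∀ u, SpWeil.pJ hA φ' ψ x w (t u) = t u)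
    (h3 : ∀ u, t (SpWeil.pJ hA φ ψ x w u) = t u)
    (hs : ∀ a, B x a = 0 → B w a = 0 → ∀ l u, φ' (sh hA x a l) (t u) = t (φ (sh hA x a l) u)) :
    ∃ f : U →ₗ[ℂ] U', IsHx hA φ φ' ψ x f ∧ ∀ u, f (SpWeil.pJ hA φ ψ x w u) = t u := by
  classical
  haveI : Finite V := Module.finite_of_finite F
  haveI := Fintype.ofFinite V
  have hx1 : ∀ u, pX hA φ' ψ x (t u) = t u := fun u => by
    rw [← h1 u, pX_self (Submodule.mem_inf.mp (pJ_mem h _)).1]
  have hx3 : ∀ u, t (pX hA φ ψ x u) = t u := fun u => by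
    conv_lhs => rw [← h3]
    conv_rhs => rw [← h3 u]
    rw [SpWeil.pJ, Module.End.mul_apply, Module.End.mul_apply, pX,
      ← commute_proj φ (fun a b => sh_comm_sympT h a b), ← pX, pX_self (pX_mem x _)]
  set N := (Finset.univ.filter fun z : perp B x => B w (z : V) = 0).card with hN
  have hN0 : (N : ℂ) ≠ 0 := Nat.cast_ne_zero.mpr
    (Finset.card_ne_zero.mpr ⟨0, by simp⟩)
  refine ⟨(N : ℂ)⁻¹ • avg hA φ φ' x t, ?_, fun u => ?_⟩
  · have hav := isHx_avg (φ := φ) (φ' := φ') hx1 hx3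
    exact ⟨fun u => by rw [LinearMap.smul_apply, map_smul, hav.left],
      fun u => by rw [LinearMap.smul_apply, LinearMap.smul_apply, hav.right],
      fun a ha l u => by rw [LinearMap.smul_apply, LinearMap.smul_apply, map_smul, hav.sh a ha]⟩
  have hterm : ∀ z : perp B x, φ' (sh hA x (z : V) 1) (t (φ (sh hA x (z : V) 1)⁻¹ (SpWeil.pJ hA φ ψ x w u))) =
      if B w (z : V) = 0 then t u else 0 := by
    intro z
    have hz := perp_mem z
    rw [← sh_neg hz]
    set y := SpWeil.pJ hA φ ψ x w u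
    obtain ⟨hy1, hy2⟩ := Submodule.mem_inf.mp (pJ_mem (hA := hA) (φ := φ) (ψ := ψ) h u)
    split_ifs with hw
    · rw [← hs _ hz hw, ← Module.End.mul_apply, ← map_mul, ← sh_add hz, add_neg_cancel, sh_zero hz, map_one,
        Module.End.one_apply, h3]
    · have hz' : B x ((-1 : F) • (z : V)) = 0 := by rw [map_smul, hz, smul_zero]
      rw [show sh hA x (z : V) (-1) = sh hA x ((-1 : F) • (z : V)) 1 by rw [sh_smul hz, mul_one]]
      set y' := φ (sh hA x ((-1 : F) • (z : V)) 1) y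
      suffices hp : SpWeil.pJ hA φ ψ x w y' = 0 by rw [← h3 y', hp, map_zero, map_zero]
      have hy' : y' ∈ eig φ (sh hA x w) (ψ.mulShift (2 - 2 * B (z : V) w)) := (mem_eig φ).mpr fun l => by
        rw [← Module.End.mul_apply, ← map_mul, sh_shift hz' h, map_mul, map_mul, Module.End.mul_apply,
          Module.End.mul_apply, mem_eX.mp hy1, map_smul, (mem_eig φ).mp hy2, smul_smul, map_smul]
        congr 1
        simp only [AddChar.mulShift_apply, ← AddChar.map_add_eq_mul, map_smul, LinearMap.smul_apply,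
          smul_eq_mul]
        congr 1
        ring
      rw [SpWeil.pJ, Module.End.mul_apply, proj_other φ (fun a b => sh_add h a b) (fun e => hw ?_) hy',
        map_zero]
      have e' := mulShift_inj' hψ e
      rw [swap hA, neg_eq_zero]
      exact (mul_eq_zero.mp (show (2 : F) * B (z : V) w = 0 by linear_combination e')).resolve_left h2
  rw [LinearMap.smul_apply, avg_apply, Finset.sum_congr rfl (fun z _ => hterm z), ← Finset.sum_filter,
    Finset.sum_const, ← hN, ← Nat.cast_smul_eq_nsmul ℂ, smul_smul, inv_mul_cancel₀ hN0, one_smul]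

end Cfsg.Lib.SpWeil
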