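import Mathlib
import Cfsg.Agent.Known.SpWeil.Hx
import Cfsg.Agent.Known.SpMinDegree.Bound

/-! Two irreducible representations of rank one type with the same central sign and a common character of a root
subgroup are equivalent. -/

set_option autoImplicit false
set_option linter.unusedSectionVars false
set_option linter.style.haveILetI false

open Cfsg.Lib.Classical Cfsg.Lib.SpMinDeg Cfsg.Lib.RepEigen

namespace Cfsg.Lib.SpWeil

universe u v w w'

variable {F : Type u} [Field F] [Fintype F] {V : Type v} [AddCommGroup V] [Module F V] [FiniteDimensional F V]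
  {B : LinearMap.BilinForm F V} {hA : B.IsAlt}
  {U : Type w} [AddCommGroup U] [Module ℂ U] [FiniteDimensional ℂ U] {φ : BilinIsom B →* Module.End ℂ U}
  {U' : Type w'} [AddCommGroup U'] [Module ℂ U'] [FiniteDimensional ℂ U']
  {φ' : BilinIsom B →* Module.End ℂ U'} {ψ : AddChar F ℂ}

/-- No invariant subspace. -/
def Irr {G M : Type*} [Group G] [AddCommGroup M] [Module ℂ M] (χ : G →* Module.End ℂ M) : Prop :=
  ∀ X : Submodule ℂ M, (∀ g, ∀ x ∈ X, χ g x ∈ X) → X = ⊥ ∨ X = ⊤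

variable (hA φ φ' ψ) in
/-- An equivariant family of Heisenberg maps. -/
structure IsFam (Fm : V → U →ₗ[ℂ] U') : Prop where
  hx : ∀ x : V, x ≠ 0 → IsHx hA φ φ' ψ x (Fm x)
  equiv : ∀ (g : BilinIsom B) (x : V), x ≠ 0 → ∀ u, Fm ((g : V ≃ₗ[F] V) x) (φ g u) = φ' g (Fm x u)

variable (hR : R1 hA φ) (hR' : R1 hA φ') (hψ : ψ ≠ 1) (h2 : (2 : F) ≠ 0) (hB : B.Nondegenerate)

include hR hR' hψ h2 hB in
theorem exists_fam {x₀ : V} (hx₀ : x₀ ≠ 0) {f : U →ₗ[ℂ] U'} (hf : IsHx hA φ φ' ψ x₀ f) :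
    ∃ Fm : V → U →ₗ[ℂ] U', IsFam hA φ φ' ψ Fm ∧ Fm x₀ = f := by
  classical
  choose g hg using fun (x : V) (hx : x ≠ 0) => sympIsom_transitive hA hB hx₀ hx
  let Fm : V → U →ₗ[ℂ] U' := fun x =>
    if hx : x ≠ 0 then (φ' (g x hx)) ∘ₗ f ∘ₗ (φ (g x hx)⁻¹) else 0
  have key : ∀ (x : V) (hx : x ≠ 0) (h : BilinIsom B), (h : V ≃ₗ[F] V) x₀ = x → ∀ u,
      Fm x u = φ' h (f (φ h⁻¹ u)) := by
    intro x hx h hh u
    simp only [Fm, dif_pos hx, LinearMap.comp_apply]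
    have hfix : ((h⁻¹ * g x hx : BilinIsom B) : V ≃ₗ[F] V) x₀ = x₀ := by
      rw [BilinIsom.mul_apply', hg]
      conv_lhs => rw [← hh]
      exact BilinIsom.inv_apply_self h x₀
    have e := hf.commute_fix hR hR' hψ h2 hB hfix (φ (g x hx)⁻¹ u)
    rw [← Module.End.mul_apply (φ (h⁻¹ * g x hx)), ← map_mul, mul_assoc, mul_inv_cancel, mul_one] at e
    rw [← e, ← Module.End.mul_apply (φ' h), ← map_mul, mul_inv_cancel_left]
  refine ⟨Fm, ⟨fun x hx => ?_, fun h x hx u => ?_⟩, LinearMap.ext fun u => ?_⟩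
  · have e := hf.conj (g x hx)
    rw [hg] at e
    rw [show Fm x = (φ' (g x hx)) ∘ₗ f ∘ₗ (φ (g x hx)⁻¹) from dif_pos hx]
    exact e
  · have hx' : (h : V ≃ₗ[F] V) x ≠ 0 := fun e => hx ((h : V ≃ₗ[F] V).injective (e.trans (map_zero _).symm))
    rw [key _ hx' (h * g x hx) (by rw [BilinIsom.mul_apply', hg]) (φ h u), key x hx (g x hx) (hg x hx) u,
      map_mul, Module.End.mul_apply, mul_inv_rev, map_mul, Module.End.mul_apply, phi_cancel]
  · rw [key x₀ hx₀ 1 rfl u, inv_one, map_one, map_one, Module.End.one_apply, Module.End.one_apply]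

include hB in
theorem IsFam.ext_point {Fm Gm : V → U →ₗ[ℂ] U'} (hF : IsFam hA φ φ' ψ Fm) (hG : IsFam hA φ φ' ψ Gm) {x₀ x : V}
    (hx₀ : x₀ ≠ 0) (hx : x ≠ 0) (h : Fm x₀ = Gm x₀) : Fm x = Gm x := by
  obtain ⟨g, rfl⟩ := sympIsom_transitive hA hB hx₀ hx
  refine LinearMap.ext fun u => ?_
  obtain ⟨u', rfl⟩ : ∃ u', φ g u' = u := ⟨φ g⁻¹ u, by
    simpa using phi_cancel (χ := φ) g⁻¹ u⟩
  rw [hF.equiv g x₀ hx₀, hG.equiv g x₀ hx₀, h]

include hR hR' hψ h2 hB in
/-- The partner family. -/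
theorem IsFam.exists_step {Fm : V → U →ₗ[ℂ] U'} (hF : IsFam hA φ φ' ψ Fm) {x₀ w₀ : V} (h₀ : B x₀ w₀ = 0)
    (hi₀ : LinearIndependent F ![x₀, w₀]) :
    ∃ Gm : V → U →ₗ[ℂ] U', IsFam hA φ φ' ψ Gm ∧ ∀ x w, B x w = 0 → LinearIndependent F ![x, w] →
      ∀ u, Fm x (pJ hA φ ψ x w u) = Gm w (pJ hA φ ψ x w u) := by
  have hx₀ : x₀ ≠ 0 := by simpa using hi₀.ne_zero 0
  have hw₀ : w₀ ≠ 0 := by simpa using hi₀.ne_zero 1
  have h₀' : B w₀ x₀ = 0 := by rw [swap hA, h₀, neg_zero]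
  have hFx := hF.hx x₀ hx₀
  set t : U →ₗ[ℂ] U' := (Fm x₀) ∘ₗ (pJ hA φ ψ x₀ w₀) with ht
  have tmem : ∀ u, t u ∈ eJ hA φ' ψ x₀ w₀ := fun u => by
    rw [ht, LinearMap.comp_apply, ← hFx.pJ h₀]
    exact pJ_mem h₀ _
  obtain ⟨f, hf, hft⟩ := exists_lift (hA := hA) (φ := φ) (φ' := φ') hψ h2 h₀' (t := t) (fun u => by
      rw [← pJ_symm hR' hψ h2 h₀, pJ_self h₀ (tmem u)])
    (fun u => by
      rw [← pJ_symm hR hψ h2 h₀, ht, LinearMap.comp_apply, LinearMap.comp_apply, pJ_self h₀ (pJ_mem h₀ u)])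
    (fun a ha hxa l u => by
      rw [← eJ_transfer hR' hψ h2 h₀ hxa ha (tmem u) l, ht, LinearMap.comp_apply, LinearMap.comp_apply,
        hFx.sh a hxa l, eJ_transfer hR hψ h2 h₀ hxa ha (pJ_mem h₀ u) l, pJ_conj,
        sh_fix ha h₀ hxa, sh_centre ha])
  obtain ⟨Gm, hG, hGw⟩ := exists_fam hR hR' hψ h2 hB hw₀ hf
  refine ⟨Gm, hG, fun x w hxw hi u => ?_⟩
  obtain ⟨g, rfl, rfl⟩ := exists_pair_move hA hB h₀ hxw hi₀ hi
  obtain ⟨u', rfl⟩ : ∃ u', φ g u' = u := ⟨φ g⁻¹ u, by simpa using phi_cancel (χ := φ) g⁻¹ u⟩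
  rw [← pJ_conj, hF.equiv g x₀ hx₀, hG.equiv g w₀ hw₀, hGw]
  have := hft u'
  rw [← pJ_symm hR hψ h2 h₀, ht, LinearMap.comp_apply] at this
  rw [this]

include hA hB in
theorem exists_two_orth (h4 : 4 ≤ Module.finrank F V) {y z : V} (hyz : B y z ≠ 0) :
    ∃ w₁ w₂ : V, B w₁ w₂ = 1 ∧ B y w₁ = 0 ∧ B y w₂ = 0 ∧ B z w₁ = 0 ∧ B z w₂ = 0 := by
  have hN : Nd B (⊤ : Submodule F V) := fun x _ h => hB.1 x fun y => h y trivial
  obtain ⟨W', hmem, hW', hd⟩ := orth_inter_pair (hA := hA) hN (v := y) (u := (B y z)⁻¹ • z) trivial trivial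
    (by rw [map_smul, smul_eq_mul, inv_mul_cancel₀ hyz])
  rw [finrank_top] at hd
  haveI : Nontrivial W' := Module.nontrivial_of_finrank_pos (R := F) (by omega)
  obtain ⟨w₁, hw₁⟩ := exists_ne (0 : W')
  obtain ⟨w₂, hw₂, h12⟩ := exists_partner hW' w₁.2 (fun e => hw₁ (Subtype.ext e))
  have hmem' : ∀ w ∈ W', B y w = 0 ∧ B z w = 0 := by
    intro w hw
    obtain ⟨-, h1, h3⟩ := (hmem w).mp hw
    rw [map_smul, smul_eq_mul] at h3
    exact ⟨by rw [swap hA, h1, neg_zero],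
      by rw [swap hA, (mul_eq_zero.mp h3).resolve_left (inv_ne_zero hyz), neg_zero]⟩
  exact ⟨w₁, w₂, h12, (hmem' _ w₁.2).1, (hmem' _ hw₂).1, (hmem' _ w₁.2).2, (hmem' _ hw₂).2⟩

include hA hB in
theorem exists_orth_pair (h4 : 4 ≤ Module.finrank F V) :
    ∃ x w : V, B x w = 0 ∧ LinearIndependent F ![x, w] := by
  haveI : Nontrivial V := Module.nontrivial_of_finrank_pos (R := F) (by omega)
  obtain ⟨y, hy⟩ := exists_ne (0 : V)
  obtain ⟨z, hz⟩ := exists_hyperbolic_partner hB hy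
  obtain ⟨w₁, w₂, h12, hy1, -, hz1, -⟩ := exists_two_orth (hA := hA) hB h4 (show B y z ≠ 0 by rw [hz]; exact one_ne_zero)
  refine ⟨y, w₁, hy1, LinearIndependent.pair_iff.mpr fun s t e => ?_⟩
  have e1 := congrArg (fun v => B v z) e
  simp only [map_add, map_smul, LinearMap.add_apply, LinearMap.smul_apply, hz, swap hA w₁ z, hz1, neg_zero,
    smul_eq_mul, mul_zero, add_zero, mul_one, map_zero, LinearMap.zero_apply] at e1
  have e2 := congrArg (fun v => B v w₂) e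
  simp only [map_add, map_smul, LinearMap.add_apply, LinearMap.smul_apply, e1, h12, smul_eq_mul,
    zero_mul, zero_add, mul_one, map_zero, LinearMap.zero_apply] at e2
  exact ⟨e1, e2⟩

include hR hR' hψ h2 hB in
/-- A non-zero family agreeing on all orthogonal pairs. -/
theorem exists_agree (h4 : 4 ≤ Module.finrank F V) {x₀ : V} (hx₀ : x₀ ≠ 0) (hE : eX hA φ ψ x₀ ≠ ⊥)
    (hE' : eX hA φ' ψ x₀ ≠ ⊥) :
    ∃ Gm : V → U →ₗ[ℂ] U', IsFam hA φ φ' ψ Gm ∧ (∃ x, x ≠ 0 ∧ Gm x ≠ 0) ∧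
      ∀ x w, B x w = 0 → LinearIndependent F ![x, w] →
        ∀ u, Gm x (pJ hA φ ψ x w u) = Gm w (pJ hA φ ψ x w u) := by
  classical
  haveI : Finite V := Module.finite_of_finite F
  haveI := Fintype.ofFinite V
  obtain ⟨f, hf, hf0⟩ := exists_isHx hψ h2 hB hE hE'
  obtain ⟨Fm, hF, hFx⟩ := exists_fam hR hR' hψ h2 hB hx₀ hf
  obtain ⟨a, b, hab, hiab⟩ := exists_orth_pair (hA := hA) hB h4
  obtain ⟨G₁, hG₁, hs₁⟩ := hF.exists_step hR hR' hψ h2 hB hab hiab
  obtain ⟨G₂, hG₂, hs₂⟩ := hG₁.exists_step hR hR' hψ h2 hB hab hiab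
  have ha0 : a ≠ 0 := by simpa using hiab.ne_zero 0
  have hb0 : b ≠ 0 := by simpa using hiab.ne_zero 1
  set y := (2 : F) • a - b with hy
  have hba : B b a = 0 := by rw [swap hA, hab, neg_zero]
  have hay : B a y = 0 := by simp [hy, hA a, hab]
  have hby : B b y = 0 := by simp [hy, hA b, hba]
  have hiay : LinearIndependent F ![a, y] := LinearIndependent.pair_iff.mpr fun s t e => by
    obtain ⟨h1, h3⟩ := LinearIndependent.pair_iff.mp hiab (s + 2 * t) (-t) (by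
      linear_combination (norm := (rw [hy]; module)) e)
    rw [neg_eq_zero] at h3
    exact ⟨by simpa [h3] using h1, h3⟩
  have hiby : LinearIndependent F ![b, y] := LinearIndependent.pair_iff.mpr fun s t e => by
    obtain ⟨h1, h3⟩ := LinearIndependent.pair_iff.mp hiab (2 * t) (s - t) (by
      linear_combination (norm := (rw [hy]; module)) e)
    have ht : t = 0 := (mul_eq_zero.mp h1).resolve_left h2
    exact ⟨by simpa [ht] using h3, ht⟩
  have hy0 : y ≠ 0 := by simpa using hiay.ne_zero 1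
  have ea : ∀ u, pJ hA φ ψ a y u = pJ hA φ ψ a b u := fun u => by
    have := pJ_line hR hψ h2 hab (a := (2 : F)) (fun e => one_ne_zero (show (1 : F) = 0 by linear_combination e)) u
    rwa [show (2 : F) • a + (1 - (2 : F)) • b = y by rw [hy]; module] at this
  have eb : ∀ u, pJ hA φ ψ b y u = pJ hA φ ψ a b u := fun u => by
    have := pJ_line hR hψ h2 hba (a := (-1 : F)) (fun e => h2 (by linear_combination -e)) u
    rw [show (-1 : F) • b + (1 - (-1 : F)) • a = y by rw [hy]; module] at this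
    rw [this, pJ_symm hR hψ h2 hba]
  have hyb : B y b = 0 := by rw [swap hA, hby, neg_zero]
  have hd : G₁ y = G₂ y := by
    have hh : IsHx hA φ φ' ψ y (G₁ y - G₂ y) :=
      ⟨fun u => by rw [LinearMap.sub_apply, map_sub, (hG₁.hx y hy0).left, (hG₂.hx y hy0).left],
        fun u => by rw [LinearMap.sub_apply, LinearMap.sub_apply, (hG₁.hx y hy0).right, (hG₂.hx y hy0).right],
        fun c hc l u => by
          rw [LinearMap.sub_apply, LinearMap.sub_apply, map_sub, (hG₁.hx y hy0).sh c hc,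
            (hG₂.hx y hy0).sh c hc]⟩
    refine sub_eq_zero.mp (hh.eq_zero_of_pJ hψ h2 hB hyb (LinearIndependent.pair_symm_iff.mp hiby) fun u => ?_)
    rw [← pJ_symm hR hψ h2 hby, LinearMap.sub_apply, sub_eq_zero]
    rw [← hs₂ b y hby hiby, eb, ← ea, ← hs₁ a y hay hiay, ea, hs₁ a b hab hiab]
  refine ⟨G₁, hG₁, ⟨b, hb0, fun e => hf0 ?_⟩, fun x w hxw hi u => ?_⟩
  · have h0 : Fm a = 0 := (hF.hx a ha0).eq_zero_of_pJ hψ h2 hB hab hiab fun u => by
      rw [hs₁ a b hab hiab, e, LinearMap.zero_apply]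
    rw [← hFx]
    exact (hF.ext_point hB (Gm := fun _ => 0)
      ⟨fun x _ => ⟨fun u => by simp, fun u => by simp, fun c _ l u => by simp⟩, fun g x _ u => by simp⟩
      ha0 hx₀ h0)
  · have hw0 : w ≠ 0 := by simpa using hi.ne_zero 1
    rw [hs₂ x w hxw hi, hG₁.ext_point hB hG₂ hy0 hw0 hd]

variable {Gm : V → U →ₗ[ℂ] U'} (hG : IsFam hA φ φ' ψ Gm)
  (hag : ∀ x w, B x w = 0 → LinearIndependent F ![x, w] →
        ∀ u, Gm x (pJ hA φ ψ x w u) = Gm w (pJ hA φ ψ x w u))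
  {ε : ℂ} (hn : φ (negIsom B) = ε • 1) (hn' : φ' (negIsom B) = ε • 1)

include hG hn hn' in
theorem IsFam.apply_neg {y : V} (hy : y ≠ 0) (u : U) : Gm (-y) u = Gm y u := by
  obtain ⟨u', rfl⟩ : ∃ u', φ (negIsom B) u' = u := ⟨φ (negIsom B)⁻¹ u, by
    simpa using phi_cancel (χ := φ) (negIsom B)⁻¹ u⟩
  have := hG.equiv (negIsom B) y hy u'
  rw [negIsom_apply] at this
  rw [this, hn', hn, LinearMap.smul_apply, LinearMap.smul_apply, Module.End.one_apply, Module.End.one_apply,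
    map_smul]

include hR hψ h2 hG hag hn hn' in
theorem agree_inter {y w : V} (hy : y ≠ 0) (hw : w ≠ 0) (h : B y w = 0) {u : U} (h1 : u ∈ eX hA φ ψ y)
    (h3 : u ∈ eX hA φ ψ w) : Gm y u = Gm w u := by
  rcases eq_or_ne u 0 with rfl | hu
  · rw [map_zero, map_zero]
  by_cases hi : LinearIndependent F ![y, w]
  · rw [← sum_proj_apply φ (sh_zero (hA := hA) h) u, map_sum, map_sum]
    refine Finset.sum_congr rfl fun χ _ => ?_
    obtain ⟨γ, hγ⟩ := exists_mulShift hψ χ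
    obtain rfl : χ = ψ.mulShift γ := DFunLike.ext _ _ fun c => by rw [hγ, AddChar.mulShift_apply]
    set x := proj φ (sh hA y w) (ψ.mulShift γ) u
    rcases eq_or_ne x 0 with hx | hx
    · rw [hx, map_zero, map_zero]
    have hxy : x ∈ eX hA φ ψ y := proj_mem_eig_comm φ (fun l a => (sh_comm_sympT h a l).symm) _ h1
    have hwy : B w y = 0 := by rw [swap hA, h, neg_zero]
    have hxw : x ∈ eX hA φ ψ w :=
      proj_mem_eig_comm φ (fun l a => root_commute hA (sh_fix h hwy (hA w) l) a) _ h3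
    have hxs : x ∈ eig φ (sh hA y w) (ψ.mulShift γ) := proj_mem_eig φ (fun a b => sh_add h a b) _ _
    have e := hR ψ hψ y w h x hx 1 1 γ (by rw [← self_eq_shift]; exact hxy)
      (by rw [← self_eq_shift]; exact hxw) hxs
    rcases (sq_eq_sq_iff_eq_or_eq_neg.mp (show γ ^ 2 = 2 ^ 2 by rw [e]; norm_num)) with rfl | rfl
    · have hm : x ∈ eJ hA φ ψ y w := Submodule.mem_inf.mpr ⟨hxy, hxs⟩
      rw [← pJ_self h hm]
      exact hag y w h hi x
    · have h' : B y (-w) = 0 := by rw [map_neg, h, neg_zero]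
      have hm : x ∈ eJ hA φ ψ y (-w) := Submodule.mem_inf.mpr ⟨hxy, (mem_eig φ).mpr fun l => by
        rw [show sh hA y (-w) l = sh hA y w (-1 * l) by rw [← sh_smul h, neg_one_smul], (mem_eig φ).mp hxs,
          AddChar.mulShift_apply, AddChar.mulShift_apply]
        congr 2
        ring⟩
      rw [← pJ_self h' hm, hag y (-w) h' (LinearIndependent.pair_iff.mpr fun s t e => by
        obtain ⟨h1, h3⟩ := LinearIndependent.pair_iff.mp hi s (-t) (by
          rw [neg_smul, ← smul_neg]; exact e)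
        exact ⟨h1, neg_eq_zero.mp h3⟩) x, hG.apply_neg hn hn' hw]
  · obtain ⟨a, rfl⟩ : ∃ a : F, a • y = w := by
      by_contra hc
      push Not at hc
      exact hi ((LinearIndependent.pair_iff' hy).mpr hc)
    have ha : (1 : F) = a ^ 2 := by
      refine mulShift_inj' hψ (DFunLike.ext _ _ fun c => ?_)
      have e := mem_eX.mp h3 c
      rw [sympT_smul, mem_eX.mp h1] at e
      rw [AddChar.mulShift_apply, AddChar.mulShift_apply, one_mul]
      exact smul_left_injective ℂ hu e.symm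
    rcases sq_eq_one_iff.mp ha.symm with rfl | rfl
    · rw [one_smul]
    · rw [neg_one_smul, hG.apply_neg hn hn' hy]

include hR hR' hψ h2 hG hag hn hn' in
theorem pX_orth {y w : V} (hy : y ≠ 0) (hw : w ≠ 0) (h : B y w = 0) {v : U} (hv : v ∈ eX hA φ ψ y) :
    pX hA φ' ψ w (Gm y v) = Gm w (pX hA φ ψ w v) := by
  rw [pX, proj_intertwine φ φ' (T := Gm y) (f := sympT hA w)
    (fun c u => (hG.hx y hy).commute_sympT hR hR' hψ h2 h c u), ← pX]
  exact agree_inter hR hψ h2 hG hag hn hn' hy hw h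
    (proj_mem_eig_comm φ (fun a b => sympT_commute hA (by rw [swap hA, h, neg_zero]) a b) _ hv) (pX_mem w v)

include hR hψ h2 hB in
theorem eX_le_sup (h4 : 4 ≤ Module.finrank F V) {y z : V} (hyz : B y z ≠ 0) :
    eX hA φ ψ y ≤ ⨆ (w : V) (_ : w ≠ 0 ∧ B y w = 0 ∧ B z w = 0), eX hA φ ψ y ⊓ eX hA φ ψ w := by
  classical
  set S := ⨆ (w : V) (_ : w ≠ 0 ∧ B y w = 0 ∧ B z w = 0), eX hA φ ψ y ⊓ eX hA φ ψ w with hS
  obtain ⟨w₁, w₂, h12, hy1, hy2, hz1, hz2⟩ := exists_two_orth (hA := hA) hB h4 hyz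
  have hw1 : w₁ ≠ 0 := fun e => by rw [e] at h12; simp at h12
  have hw2 : w₂ ≠ 0 := fun e => by rw [e] at h12; simp at h12
  have h4' : (4 : F) ≠ 0 := by rw [show (4 : F) = 2 * 2 by norm_num]; exact mul_ne_zero h2 h2
  let P : V → U → U := fun w => proj φ (sh hA y w) (ψ.mulShift 0)
  have hmem : ∀ w, B y w = 0 → ∀ u ∈ eX hA φ ψ y, ∀ χ, proj φ (sh hA y w) χ u ∈ eX hA φ ψ y :=
    fun w hw u hu χ => proj_mem_eig_comm φ (fun l a => (sh_comm_sympT hw a l).symm) _ hu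
  have key : ∀ w, w ≠ 0 → B y w = 0 → B z w = 0 → ∀ u ∈ eX hA φ ψ y, u - P w u ∈ S := by
    intro w hw0 hyw hzw u hu
    have : u - P w u = ∑ χ ∈ Finset.univ.erase (ψ.mulShift 0), proj φ (sh hA y w) χ u := by
      rw [Finset.sum_erase_eq_sub (Finset.mem_univ _), sum_proj_apply φ (sh_zero hyw)]
    rw [this]
    refine Submodule.sum_mem _ fun χ hχ => ?_
    obtain ⟨γ, hγ⟩ := exists_mulShift hψ χ
    obtain rfl : χ = ψ.mulShift γ := DFunLike.ext _ _ fun c => by rw [hγ, AddChar.mulShift_apply]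
    have hγ0 : γ ≠ 0 := fun e => (Finset.mem_erase.mp hχ).1 (by rw [e])
    have hx := hmem w hyw u hu (ψ.mulShift γ)
    have hs := eig_sympT_smul (eig_of_sh hR hψ h2 hyw hx
      (proj_mem_eig φ (fun a b => sh_add hyw a b) _ u)) (2 / γ)
    rw [show γ ^ 2 / 4 * (2 / γ) ^ 2 = 1 by field_simp; ring, ← self_eq_shift] at hs
    exact Submodule.mem_iSup_of_mem ((2 / γ) • w) (Submodule.mem_iSup_of_mem
      ⟨smul_ne_zero (div_ne_zero h2 hγ0) hw0, by rw [map_smul, hyw, smul_zero],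
        by rw [map_smul, hzw, smul_zero]⟩ (Submodule.mem_inf.mpr ⟨hx, hs⟩))
  intro v hv
  set p := P w₁ v with hp
  have hpy : p ∈ eX hA φ ψ y := hmem w₁ hy1 v hv _
  have hP2 : P w₂ p ∈ eX hA φ ψ y := hmem w₂ hy2 p hpy _
  have hsum : P w₁ (P w₂ p) = (Fintype.card F : ℂ)⁻¹ • p := by
    have hps : p ∈ eig φ (sh hA y w₁) (ψ.mulShift 0) := proj_mem_eig φ (fun a b => sh_add hy1 a b) _ v
    have hterm : ∀ l : F, P w₁ (φ (sh hA y w₂ l) p) = if l = 0 then p else 0 := by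
      intro l
      split_ifs with hl
      · rw [hl, sh_zero hy2, map_one, Module.End.one_apply]
        exact proj_self φ (fun a b => sh_add hy1 a b) hps
      · have hl2 : B y (l • w₂) = 0 := by rw [map_smul, hy2, smul_zero]
        have hm : φ (sh hA y w₂ l) p ∈ eig φ (sh hA y w₁) (ψ.mulShift (2 * B (l • w₂) w₁)) :=
          (mem_eig φ).mpr fun m => by
            rw [show sh hA y w₂ l = sh hA y (l • w₂) 1 by rw [sh_smul hy2, mul_one], ← Module.End.mul_apply,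
              ← map_mul, sh_shift hl2 hy1, map_mul, map_mul, Module.End.mul_apply, Module.End.mul_apply,
              mem_eX.mp hpy, map_smul, (mem_eig φ).mp hps, smul_smul, map_smul]
            congr 1
            simp only [AddChar.mulShift_apply, zero_mul, AddChar.map_zero_eq_one, mul_one, map_smul,
              LinearMap.smul_apply]
            congr 1
            ring
        refine proj_other φ (fun a b => sh_add hy1 a b) (fun e => hl ?_) hm
        have e' := mulShift_inj' hψ e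
        rw [map_smul, LinearMap.smul_apply, swap hA w₂ w₁, h12, smul_eq_mul] at e'
        exact (mul_eq_zero.mp (show (2 : F) * l = 0 by linear_combination e')).resolve_left h2
    have hexp : P w₂ p = (Fintype.card F : ℂ)⁻¹ • ∑ l, φ (sh hA y w₂ l) p := by
      simp [P, proj, LinearMap.sum_apply]
    rw [hexp]
    change proj φ (sh hA y w₁) (ψ.mulShift 0) _ = _
    rw [map_smul, map_sum]
    congr 1
    rw [Finset.sum_congr rfl (fun l _ => hterm l), Finset.sum_ite_eq' Finset.univ (0 : F) (fun _ => p),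
      if_pos (Finset.mem_univ _)]
  have a1 := key w₁ hw1 hy1 hz1 v hv
  have a2 := key w₂ hw2 hy2 hz2 p hpy
  have a3 := key w₁ hw1 hy1 hz1 _ hP2
  rw [← hp] at a1
  rw [hsum] at a3
  have a4 : (1 - (Fintype.card F : ℂ)⁻¹) • p ∈ S := by
    have := S.add_mem a2 a3
    rw [sub_smul, one_smul]
    convert this using 1
    abel
  have hq : (1 : ℂ) - (Fintype.card F : ℂ)⁻¹ ≠ 0 := by
    rw [sub_ne_zero, ne_comm, Ne, inv_eq_one, Nat.cast_eq_one]
    exact Fintype.one_lt_card.ne'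
  have := S.add_mem a1 ((Submodule.smul_mem_iff _ hq).mp a4)
  rwa [sub_add_cancel] at this

include hR hR' hψ h2 hB hG hag hn hn' in
theorem pX_family (h4 : 4 ≤ Module.finrank F V) {y z : V} (hy : y ≠ 0) (hz : z ≠ 0) {v : U}
    (hv : v ∈ eX hA φ ψ y) : pX hA φ' ψ z (Gm y v) = Gm z (pX hA φ ψ z v) := by
  by_cases h : B y z = 0
  · exact pX_orth hR hR' hψ h2 hG hag hn hn' hy hz h hv
  · have hle : eX hA φ ψ y ≤ LinearMap.eqLocus ((pX hA φ' ψ z) ∘ₗ (Gm y)) ((Gm z) ∘ₗ (pX hA φ ψ z)) := by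
      refine (eX_le_sup hR hψ h2 hB h4 h).trans (iSup₂_le fun w hw u hu => ?_)
      obtain ⟨hw0, hyw, hzw⟩ := hw
      obtain ⟨hu1, hu2⟩ := Submodule.mem_inf.mp hu
      change pX hA φ' ψ z (Gm y u) = Gm z (pX hA φ ψ z u)
      rw [agree_inter hR hψ h2 hG hag hn hn' hy hw0 hyw hu1 hu2]
      exact pX_orth hR hR' hψ h2 hG hag hn hn' hw0 hz (by rw [swap hA, hzw, neg_zero]) hu2
    exact hle hv

omit hG hag hn hn' in
include hR hR' hψ h2 hB in
/-- Uniqueness of the representations of rank one type. -/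
theorem equiv_of_R1 (h4 : 4 ≤ Module.finrank F V) (hU : Irr φ) (hU' : Irr φ') {x₀ : V} (hx₀ : x₀ ≠ 0)
    (hE : eX hA φ ψ x₀ ≠ ⊥) (hE' : eX hA φ' ψ x₀ ≠ ⊥) {ε : ℂ} (hn : φ (negIsom B) = ε • 1)
    (hn' : φ' (negIsom B) = ε • 1) :
    ∃ e : U ≃ₗ[ℂ] U', ∀ g u, e (φ g u) = φ' g (e u) := by
  classical
  obtain ⟨Gm, hG, ⟨xG, hxG, hne⟩, hag⟩ := exists_agree hR hR' hψ h2 hB h4 hx₀ hE hE'
  haveI : Finite V := Module.finite_of_finite F
  haveI := Fintype.ofFinite {y : V // y ≠ 0}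
  let L : (∀ y : {y : V // y ≠ 0}, eX hA φ ψ (y : V)) →ₗ[ℂ] U :=
    ∑ y : {y : V // y ≠ 0}, (eX hA φ ψ (y : V)).subtype ∘ₗ LinearMap.proj y
  let M : (∀ y : {y : V // y ≠ 0}, eX hA φ ψ (y : V)) →ₗ[ℂ] U' :=
    ∑ y : {y : V // y ≠ 0}, (Gm (y : V)) ∘ₗ (eX hA φ ψ (y : V)).subtype ∘ₗ LinearMap.proj y
  have hL : ∀ p, L p = ∑ y, (p y : U) := fun p => by simp [L]
  have hM : ∀ p, M p = ∑ y : {y : V // y ≠ 0}, Gm (y : V) (p y : U) := fun p => by simp [M]
  have hkerz : ∀ u' : U', (∀ z : V, z ≠ 0 → pX hA φ' ψ z u' = 0) → u' = 0 := by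
    intro u' hu'
    let K : Submodule ℂ U' := ⨅ (z : V) (_ : z ≠ 0), LinearMap.ker (pX hA φ' ψ z)
    rcases hU' K (fun g u hu => by
      simp only [K, Submodule.mem_iInf, LinearMap.mem_ker] at hu ⊢
      intro z hz
      obtain ⟨z', rfl⟩ := (g : V ≃ₗ[F] V).surjective z
      rw [← pX_conj, hu z' (fun e => hz (by rw [e, map_zero])), map_zero]) with hK | hK
    · have : u' ∈ K := by simpa [K, Submodule.mem_iInf] using hu'
      rwa [hK, Submodule.mem_bot] at this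
    · exfalso
      obtain ⟨v, hv, hv0⟩ := Submodule.exists_mem_ne_zero_of_ne_bot hE'
      have : v ∈ K := by rw [hK]; trivial
      simp only [K, Submodule.mem_iInf, LinearMap.mem_ker] at this
      exact hv0 (by rw [← pX_self hv, this x₀ hx₀])
  have hker : LinearMap.ker L ≤ LinearMap.ker M := by
    intro p hp
    rw [LinearMap.mem_ker] at hp ⊢
    refine hkerz _ fun z hz => ?_
    rw [hM, map_sum, Finset.sum_congr rfl (fun y _ =>
      pX_family hR hR' hψ h2 hB hG hag hn hn' h4 y.2 hz (p y).2), ← map_sum, ← map_sum, ← hL, hp, map_zero,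
      map_zero]
  have hgen : ∀ X : Submodule ℂ U, (∀ y : V, y ≠ 0 → eX hA φ ψ y ≤ X) → X = ⊤ := by
    intro X hX
    rcases hU (⨆ (y : V) (_ : y ≠ 0), eX hA φ ψ y) (fun g u hu => by
      refine (iSup₂_le (a := Submodule.comap (φ g) (⨆ (y : V) (_ : y ≠ 0), eX hA φ ψ y)) fun y hy v hv => ?_) hu
      exact Submodule.mem_iSup_of_mem ((g : V ≃ₗ[F] V) y)
        (Submodule.mem_iSup_of_mem (fun e => hy ((g : V ≃ₗ[F] V).injective (e.trans (map_zero _).symm)))
          (eX_conj hv))) with h | h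
    · exact absurd (eq_bot_iff.mpr ((le_iSup₂_of_le x₀ hx₀ le_rfl).trans h.le)) hE
    · exact top_le_iff.mp (h ▸ iSup₂_le hX)
  have hLtop : LinearMap.range L = ⊤ := hgen _ fun y hy v hv => ⟨Pi.single ⟨y, hy⟩ ⟨v, hv⟩, by
    rw [hL, Finset.sum_eq_single ⟨y, hy⟩ (fun b _ hb => by rw [Pi.single_eq_of_ne hb]; rfl)
      (fun hn => absurd (Finset.mem_univ _) hn), Pi.single_eq_same]⟩
  obtain ⟨s, hs⟩ := L.exists_rightInverse_of_surjective hLtop
  let Φ : U →ₗ[ℂ] U' := M ∘ₗ s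
  have hΦL : ∀ p, Φ (L p) = M p := fun p => by
    have : s (L p) - p ∈ LinearMap.ker L := by
      rw [LinearMap.mem_ker, map_sub, ← LinearMap.comp_apply, hs, LinearMap.id_apply, sub_self]
    have h := hker this
    rw [LinearMap.mem_ker, map_sub, sub_eq_zero] at h
    exact h
  have hΦ : ∀ y (hy : y ≠ 0) v (hv : v ∈ eX hA φ ψ y), Φ v = Gm y v := fun y hy v hv => by
    have := hΦL (Pi.single ⟨y, hy⟩ ⟨v, hv⟩)
    rwa [hL, hM, Finset.sum_eq_single ⟨y, hy⟩ (fun b _ hb => by rw [Pi.single_eq_of_ne hb]; rfl)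
      (fun hn => absurd (Finset.mem_univ _) hn), Finset.sum_eq_single ⟨y, hy⟩
      (fun b _ hb => by rw [Pi.single_eq_of_ne hb]; simp) (fun hn => absurd (Finset.mem_univ _) hn),
      Pi.single_eq_same] at this
  have hint : ∀ g u, Φ (φ g u) = φ' g (Φ u) := by
    intro g u
    have : u ∈ LinearMap.eqLocus (Φ ∘ₗ (φ g)) ((φ' g) ∘ₗ Φ) := by
      rw [hgen (LinearMap.eqLocus (Φ ∘ₗ (φ g)) ((φ' g) ∘ₗ Φ)) fun y hy v hv => ?_]
      · trivial
      change Φ (φ g v) = φ' g (Φ v)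
      rw [hΦ y hy v hv, hΦ _ (fun e => hy ((g : V ≃ₗ[F] V).injective (e.trans (map_zero _).symm))) _
        (eX_conj hv), hG.equiv g y hy]
    exact this
  have hΦ0 : Φ ≠ 0 := by
    intro e
    refine hne (LinearMap.ext fun u => ?_)
    rw [LinearMap.zero_apply, ← (hG.hx xG hxG).right u, ← hΦ xG hxG _ (pX_mem xG u), e, LinearMap.zero_apply]
  have hinj : LinearMap.ker Φ = ⊥ := (hU _ fun g u hu => by
    rw [LinearMap.mem_ker] at hu ⊢
    rw [hint, hu, map_zero]).resolve_right fun h => hΦ0 (LinearMap.ker_eq_top.mp h)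
  have hsurj : LinearMap.range Φ = ⊤ := (hU' _ fun g u hu => by
    obtain ⟨v, rfl⟩ := hu
    exact ⟨φ g v, hint g v⟩).resolve_left fun h => hΦ0 (LinearMap.range_eq_bot.mp h)
  exact ⟨LinearEquiv.ofBijective Φ ⟨LinearMap.ker_eq_bot.mp hinj, LinearMap.range_eq_top.mp hsurj⟩, hint⟩

end Cfsg.Lib.SpWeil
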