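import Mathlib
import Cfsg.Agent.Known.SpMinDegree.Main
import Cfsg.Agent.Known.SpWeil.Embed
import Cfsg.Agent.Chars.Basic

/-! The two halves of the Weil representation of a symplectic group in odd characteristic. -/

set_option autoImplicit false
set_option linter.unusedSectionVars false
set_option linter.style.haveILetI false

open Cfsg.Lib.Classical Cfsg.Lib.SpMinDeg Cfsg.Lib.RepEigen Matrix

namespace Cfsg.Lib.SpWeil

universe u

variable {F : Type u} [Field F] [Fintype F] {n : ℕ}

/-- The vector with first half zero and second half `s`. -/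
def vec0 (s : Fin n → F) : Fin n ⊕ Fin n → F := Sum.elim (fun _ => 0) s

theorem fstH_vec0 (s : Fin n → F) : fstH (vec0 s) = 0 := rfl

theorem sndH_vec0 (s : Fin n → F) : sndH (vec0 s) = s := rfl

theorem vec0_ne {s : Fin n → F} (hs : s ≠ 0) : vec0 s ≠ 0 := fun e => hs (congrArg sndH e)

theorem vec0_orth (s t : Fin n → F) : sympBilin n F (vec0 s) (vec0 t) = 0 := by
  simp [symp_eq, fstH_vec0]

theorem vec0_add (s t : Fin n → F) : vec0 (s + t) = vec0 s + vec0 t := by
  funext i; rcases i with i | i <;> simp [vec0]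

theorem vec0_sub (s t : Fin n → F) : vec0 (s - t) = vec0 s - vec0 t := by
  funext i; rcases i with i | i <;> simp [vec0]

theorem vec0_smul (a : F) (s : Fin n → F) : vec0 (a • s) = a • vec0 s := by
  funext i; rcases i with i | i <;> simp [vec0]

/-- `vec0` as a linear map. -/
def vec0L : (Fin n → F) →ₗ[F] (Fin n ⊕ Fin n → F) where
  toFun := vec0
  map_add' := vec0_add
  map_smul' := vec0_smul

/-- Every totally isotropic subspace of dimension at most `n` moves into `vec0`. -/
theorem exists_move_vec0 (W : Submodule F (Fin n ⊕ Fin n → F))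
    (hiso : ∀ a b : W, sympBilin n F (a : Fin n ⊕ Fin n → F) b = 0) (hk : Module.finrank F W ≤ n) :
    ∃ g : BilinIsom (sympBilin n F), ∀ a : W, ∃ s, (g : (Fin n ⊕ Fin n → F) ≃ₗ[F] (Fin n ⊕ Fin n → F)) a = vec0 s := by
  classical
  let b := Module.finBasis F W
  let f : W →ₗ[F] (Fin n → F) := b.constr F fun i => Pi.single (Fin.castLE hk i) 1
  have hf : ∀ u i, f u (Fin.castLE hk i) = b.repr u i := fun u i => by
    rw [Module.Basis.constr_apply_fintype, Finset.sum_apply, Finset.sum_eq_single i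
      (fun j _ hj => by simp [Pi.single_apply, (Fin.castLE_injective hk).ne hj.symm])
      (fun h => absurd (Finset.mem_univ _) h)]
    simp [Module.Basis.equivFun_apply]
  have hinj : Function.Injective (vec0L ∘ₗ f) := fun a c e => b.repr.injective (Finsupp.ext fun i => by
    rw [← hf, ← hf]
    exact congrFun (congrArg sndH e) _)
  obtain ⟨g, hg⟩ := exists_sympIsom_extend (sympBilin_isAlt n F) (sympBilin_nondegenerate n F) (vec0L ∘ₗ f)
    hinj (fun a c => (vec0_orth _ _).trans (hiso a c).symm)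
  exact ⟨g, fun a => ⟨f a, hg a⟩⟩

variable (h2 : (2 : F) ≠ 0) (ψ : AddChar F ℂ) (hψ : ψ ≠ 1)

/-- Multiplication by a function. -/
def mulOp (h : (Fin n → F) → ℂ) : Module.End ℂ (Fn F n) := LinearMap.pi fun x => h x • LinearMap.proj x

theorem mulOp_apply (h : (Fin n → F) → ℂ) (f : Fn F n) (x : Fin n → F) : mulOp h f x = h x * f x := rfl

theorem mulOp_mul (h h' : (Fin n → F) → ℂ) : mulOp h * mulOp h' = mulOp fun x => h x * h' x :=
  LinearMap.ext fun f => funext fun x => by simp [mulOp_apply, mul_assoc]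

theorem mulOp_one : mulOp (fun _ : Fin n → F => (1 : ℂ)) = 1 :=
  LinearMap.ext fun f => funext fun x => by simp [mulOp_apply]

/-- The operator of a transvection of `vec0 s`. -/
def quadOp (s : Fin n → F) (c : F) : Module.End ℂ (Fn F n) := mulOp fun x => ψ (c / 2 * (s ⬝ᵥ x) ^ 2)

theorem quadOp_apply (s : Fin n → F) (c : F) (f : Fn F n) (x : Fin n → F) :
    quadOp ψ s c f x = ψ (c / 2 * (s ⬝ᵥ x) ^ 2) * f x := rfl

theorem quadOp_zero (s : Fin n → F) : quadOp ψ s 0 = 1 := by
  simp [quadOp, mulOp_one]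

theorem quadOp_add (s : Fin n → F) (c d : F) : quadOp ψ s (c + d) = quadOp ψ s c * quadOp ψ s d := by
  simp only [quadOp, mulOp_mul, ← AddChar.map_add_eq_mul, add_div, add_mul]

/-- `quadOp` as a unit. -/
def quadUnit (s : Fin n → F) (c : F) : (Module.End ℂ (Fn F n))ˣ where
  val := quadOp ψ s c
  inv := quadOp ψ s (-c)
  val_inv := by rw [← quadOp_add, add_neg_cancel, quadOp_zero]
  inv_val := by rw [← quadOp_add, neg_add_cancel, quadOp_zero]

theorem sympT_vec0 (s : Fin n → F) (c : F) (v : Fin n ⊕ Fin n → F) :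
    fstH ((sympT (sympBilin_isAlt n F) (vec0 s) c : BilinIsom (sympBilin n F)).1 v) = fstH v ∧
    sndH ((sympT (sympBilin_isAlt n F) (vec0 s) c : BilinIsom (sympBilin n F)).1 v) =
      sndH v - (c * (s ⬝ᵥ fstH v)) • s := by
  rw [sympT_apply, symp_eq, fstH_vec0, sndH_vec0, dotProduct_zero, zero_sub, dotProduct_comm (fstH v) s]
  constructor <;> funext i <;> simp [fstH, sndH, vec0, sub_eq_add_neg]

include h2 in
theorem intw_vec0 (s : Fin n → F) (c : F) :
    Intw ψ (sympT (sympBilin_isAlt n F) (vec0 s) c) (quadOp ψ s c) := by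
  intro v
  refine LinearMap.ext fun f => funext fun x => ?_
  obtain ⟨e1, e2⟩ := sympT_vec0 s c v
  simp only [Module.End.mul_apply, quadOp_apply, heis_apply, e1, e2, ← mul_assoc, ← AddChar.map_add_eq_mul,
    dotProduct_add, sub_dotProduct, dotProduct_sub, smul_dotProduct, dotProduct_smul, smul_eq_mul,
    dotProduct_comm (fstH v) s]
  congr 2
  field_simp
  ring

include h2 hψ in
/-- A homomorphism lifting the projective Weil representation. -/
theorem exists_omega : ∃ R : BilinIsom (sympBilin n F) →* Module.End ℂ (Fn F n),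
    ∀ g, Intw ψ g (R g) ∧ par * R g = R g * par := by
  classical
  choose P hP using exists_intw h2 ψ hψ (n := n)
  let Q : BilinIsom (sympBilin n F) → parCent F n := fun g =>
    ⟨P g, mem_parCent.mpr (intw_par h2 ψ hψ (hP g))⟩
  let dlt : parCent F n → ℂ := fun T => LinearMap.det (resEig (-1) T) / LinearMap.det (resEig 1 T)
  have hcard : Module.finrank ℂ (parEig F n 1) = Module.finrank ℂ (parEig F n (-1)) + 1 := by
    have h1 := finrank_parEig (F := F) (n := n) h2 (ε := 1) (by norm_num)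
    have h3 := finrank_parEig (F := F) (n := n) h2 (ε := -1) (by norm_num)
    have : (Module.finrank ℂ (parEig F n 1) : ℂ) = ((Module.finrank ℂ (parEig F n (-1)) + 1 : ℕ) : ℂ) := by
      push_cast
      linear_combination (h1 - h3) / 2
    exact_mod_cast this
  have hdet : ∀ (ε : ℂ) g, LinearMap.det (resEig ε (Q g)) ≠ 0 := fun ε g => by
    let Qi : parCent F n := ⟨↑(P g)⁻¹, by
      rw [mem_parCent, Units.eq_inv_mul_iff_mul_eq, ← mul_assoc, ← intw_par h2 ψ hψ (hP g), mul_assoc,
        Units.mul_inv, mul_one]⟩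
    have h1 : Q g * Qi = 1 := Subtype.ext (Units.mul_inv _)
    have h := congrArg (fun T => LinearMap.det (resEig ε T)) h1
    simp only [map_mul, map_one] at h
    exact fun e => by rw [e, zero_mul] at h; exact zero_ne_one h
  have key : ∀ (c : ℂ) (S : parCent F n) (g : BilinIsom (sympBilin n F)), c ≠ 0 →
      (S : Module.End ℂ (Fn F n)) = c • (Q g : Module.End ℂ (Fn F n)) →
      dlt S • (S : Module.End ℂ (Fn F n)) = dlt (Q g) • (Q g : Module.End ℂ (Fn F n)) := by
    intro c S g hc h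
    have hsm : ∀ ε : ℂ, resEig ε S = c • resEig ε (Q g) := fun ε => LinearMap.ext fun f => Subtype.ext (by
      simp [resEig_apply, h])
    simp only [dlt, hsm, LinearMap.det_smul, hcard, pow_succ, h, smul_smul]
    congr 1
    have := hdet 1 g
    field_simp
  let R : BilinIsom (sympBilin n F) → Module.End ℂ (Fn F n) := fun g => dlt (Q g) • (Q g : Module.End ℂ (Fn F n))
  have hdm : ∀ S T, dlt (S * T) = dlt S * dlt T := fun S T => by
    simp only [dlt, map_mul, div_mul_div_comm]
  have hmul : ∀ g h, R (g * h) = R g * R h := fun g h => by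
    obtain ⟨c, hc⟩ := intw_unique h2 ψ hψ (hP (g * h)) ((hP g).mul ψ (hP h))
    have hc0 : c ≠ 0 := fun e => by
      rw [e, zero_smul] at hc
      exact (P g * P h).ne_zero (by rw [Units.val_mul]; exact hc)
    have := key c (Q g * Q h) (g * h) hc0 hc
    rw [hdm, Submonoid.coe_mul] at this
    change dlt (Q (g * h)) • (Q (g * h) : Module.End ℂ (Fn F n)) = _
    rw [← this, mul_smul_mul_comm]
  have hone : R 1 = 1 := by
    obtain ⟨c, hc⟩ := intw_unique h2 ψ hψ (hP 1) (N := 1) (fun v => by simp [BilinIsom.one_apply'])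
    have hc0 : c ≠ 0 := fun e => by rw [e, zero_smul] at hc; exact one_ne_zero hc
    have := key c 1 1 hc0 hc
    simp only [dlt, map_one, div_one, one_smul, Submonoid.coe_one] at this
    exact this.symm
  refine ⟨{ toFun := R, map_one' := hone, map_mul' := hmul }, fun g => ⟨fun v => ?_, ?_⟩⟩
  · change R g * heis ψ v = heis ψ _ * R g
    simp only [R, smul_mul_assoc, mul_smul_comm]
    rw [show (Q g : Module.End ℂ (Fn F n)) = P g from rfl, hP g v]
  · change par * R g = R g * par
    simp only [R, smul_mul_assoc, mul_smul_comm]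
    rw [mem_parCent.mp (Q g).2]

include h2 hψ in
theorem gauss_ne_zero {a : F} (ha : a ≠ 0) : ∑ t : F, ψ (a * t ^ 2) ≠ 0 := by
  classical
  intro h0
  have hp : (∑ s : F, ψ (a * s ^ 2)) * (∑ t : F, ψ (-a * t ^ 2)) = (Fintype.card F : ℂ) := by
    rw [Fintype.sum_mul_sum, ← Fintype.sum_prod_type']
    let e : F × F ≃ F × F :=
      { toFun := fun p => (p.1 - p.2, p.1 + p.2)
        invFun := fun p => ((p.1 + p.2) / 2, (p.2 - p.1) / 2)
        left_inv := fun p => Prod.ext (by field_simp; ring) (by field_simp; ring)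
        right_inv := fun p => Prod.ext (by field_simp; ring) (by field_simp; ring) }
    rw [Fintype.sum_equiv e (fun p => ψ (a * p.1 ^ 2) * ψ (-a * p.2 ^ 2)) (fun p => ψ (p.2 * (a * p.1)))
      (fun p => by rw [← AddChar.map_add_eq_mul]; congr 1; simp [e]; ring), Fintype.sum_prod_type]
    simp only [AddChar.sum_mulShift _ (AddChar.IsPrimitive.of_ne_one hψ), mul_eq_zero, ha, false_or]
    rw [Finset.sum_eq_single (0 : F) (fun b _ hb => by simp [hb]) (fun h => absurd (Finset.mem_univ _) h)]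
    simp
  rw [h0, zero_mul] at hp
  exact Fintype.card_ne_zero (α := F) (by exact_mod_cast hp.symm)

include h2 hψ in
theorem trace_quadOp {s : Fin n → F} (hs : s ≠ 0) {c : F} :
    LinearMap.trace ℂ (Fn F n) (quadOp ψ s c) =
      (Nat.card {y : Fin n → F // s ⬝ᵥ y = 0} : ℂ) * ∑ t : F, ψ (c / 2 * t ^ 2) := by
  classical
  rw [LinearMap.trace_eq_matrix_trace ℂ (Pi.basisFun ℂ (Fin n → F)), Matrix.trace]
  simp only [Matrix.diag_apply, LinearMap.toMatrix_apply, Pi.basisFun_repr, Pi.basisFun_apply, quadOp_apply,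
    Pi.single_eq_same, mul_one]
  obtain ⟨i, hi⟩ := Function.ne_iff.mp hs
  set u : Fin n → F := Pi.single i (s i)⁻¹ with hu
  have hsu : s ⬝ᵥ u = 1 := by rw [hu, dotProduct_single, mul_inv_cancel₀ hi]
  let e : (Fin n → F) ≃ F × {y : Fin n → F // s ⬝ᵥ y = 0} :=
    { toFun := fun x => (s ⬝ᵥ x, ⟨x - (s ⬝ᵥ x) • u, by simp [dotProduct_sub, hsu]⟩)
      invFun := fun p => (p.2 : Fin n → F) + p.1 • u
      left_inv := fun x => sub_add_cancel _ _
      right_inv := fun p => by
        obtain ⟨t, y, hy⟩ := p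
        have : s ⬝ᵥ (y + t • u) = t := by simp [dotProduct_add, hsu, hy]
        exact Prod.ext this (Subtype.ext (by simp only [this]; simp)) }
  rw [Fintype.sum_equiv e (fun x => ψ (c / 2 * (s ⬝ᵥ x) ^ 2)) (fun p => ψ (c / 2 * p.1 ^ 2)) (fun x => rfl),
    Fintype.sum_prod_type]
  simp [Finset.mul_sum, Nat.card_eq_fintype_card]

variable {R : BilinIsom (sympBilin n F) →* Module.End ℂ (Fn F n)}
  (hR : ∀ g, Intw ψ g (R g) ∧ par * R g = R g * par)

include h2 hψ hR in
theorem omega_vec0 (hn : 2 ≤ n) (s : Fin n → F) (c : F) :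
    R (sympT (sympBilin_isAlt n F) (vec0 s) c) = quadOp ψ s c := by
  classical
  set hA := sympBilin_isAlt n F
  have hl : ∀ s c, ∃ l : ℂ, R (sympT hA (vec0 s) c) = l • quadOp ψ s c := fun s c =>
    intw_unique h2 ψ hψ (M := quadUnit ψ s c) (intw_vec0 h2 ψ s c) (hR _).1
  choose l hl using hl
  let e₀ : Fin n → F := Pi.single ⟨0, by omega⟩ 1
  let e₁ : Fin n → F := Pi.single ⟨1, by omega⟩ 1
  have he₀ : e₀ ≠ 0 := by simp [e₀]
  have he₁ : e₁ ≠ 0 := by simp [e₁]
  have hne : ∀ (s : Fin n → F) (c : F) (a b : ℂ), a • quadOp ψ s c = b • quadOp ψ s c → a = b :=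
    fun s c a b e => by
      have := congrArg (fun T => LinearMap.trace ℂ _ ((quadUnit ψ s c)⁻¹.val * T)) e
      simp only [mul_smul_comm, map_smul, smul_eq_mul,
        show (quadUnit ψ s c)⁻¹.val * quadOp ψ s c = 1 from (quadUnit ψ s c).inv_val, LinearMap.trace_one] at this
      exact mul_right_cancel₀ (Nat.cast_ne_zero.mpr Module.finrank_pos.ne') this
  have hindep : ∀ s : Fin n → F, s ≠ 0 → ∀ c, l s c = l e₀ c := by
    intro s hs c
    rcases eq_or_ne c 0 with rfl | hc
    · have h1 : ∀ s, l s 0 = 1 := fun s => hne s 0 _ _ (by rw [← hl, sympT_zero, map_one, quadOp_zero, one_smul])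
      rw [h1, h1]
    obtain ⟨g, hg⟩ := sympIsom_transitive hA (sympBilin_nondegenerate n F) (vec0_ne he₀) (vec0_ne hs)
    have htr : LinearMap.trace ℂ _ (R (sympT hA (vec0 s) c)) = LinearMap.trace ℂ _ (R (sympT hA (vec0 e₀) c)) := by
      rw [← hg, ← sympT_conj, map_mul R, map_mul R, LinearMap.trace_mul_comm, ← mul_assoc, ← map_mul R,
        inv_mul_cancel, map_one, one_mul]
    have hcard : ∀ s : Fin n → F, s ≠ 0 →
        Nat.card {y : Fin n → F // s ⬝ᵥ y = 0} = Fintype.card F ^ (n - 1) := by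
      intro s hs
      obtain ⟨i, hi⟩ := Function.ne_iff.mp hs
      set u : Fin n → F := Pi.single i (s i)⁻¹ with hu
      have hsu : s ⬝ᵥ u = 1 := by rw [hu, dotProduct_single, mul_inv_cancel₀ hi]
      let e : (Fin n → F) ≃ F × {y : Fin n → F // s ⬝ᵥ y = 0} :=
        { toFun := fun x => (s ⬝ᵥ x, ⟨x - (s ⬝ᵥ x) • u, by simp [dotProduct_sub, hsu]⟩)
          invFun := fun p => (p.2 : Fin n → F) + p.1 • u
          left_inv := fun x => sub_add_cancel _ _
          right_inv := fun p => by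
            obtain ⟨t, y, hy⟩ := p
            have : s ⬝ᵥ (y + t • u) = t := by simp [dotProduct_add, hsu, hy]
            exact Prod.ext this (Subtype.ext (by simp only [this]; simp)) }
      have := Nat.card_congr e
      rw [Nat.card_prod, Nat.card_fun, Nat.card_eq_fintype_card (α := F), Nat.card_fin] at this
      have hq : 0 < Fintype.card F := Fintype.card_pos
      rw [show Fintype.card F ^ n = Fintype.card F * Fintype.card F ^ (n - 1) by
        rw [← pow_succ', Nat.sub_add_cancel (show 1 ≤ n by omega)]] at this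
      exact (Nat.eq_of_mul_eq_mul_left hq this.symm)
    rw [hl, hl, map_smul, map_smul, trace_quadOp h2 ψ hψ hs, trace_quadOp h2 ψ hψ he₀, hcard s hs,
      hcard e₀ he₀, smul_eq_mul, smul_eq_mul] at htr
    exact mul_right_cancel₀ (mul_ne_zero (Nat.cast_ne_zero.mpr (pow_ne_zero _ Fintype.card_ne_zero))
      (gauss_ne_zero h2 ψ hψ (div_ne_zero hc h2))) htr
  have hdouble : ∀ c, l e₀ (c + c) = l e₀ c * l e₀ c := fun c => hne e₀ (c + c) _ _ (by
    rw [← hl, sympT_add, map_mul, hl, smul_mul_smul_comm, quadOp_add])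
  have hne0 : ∀ c, l e₀ c ≠ 0 := fun c e => by
    have h1 : R (sympT hA (vec0 e₀) c) * R (sympT hA (vec0 e₀) (-c)) = 1 := by
      rw [← map_mul, ← sympT_add, add_neg_cancel, sympT_zero, map_one]
    rw [hl, e, zero_smul, zero_mul] at h1
    exact zero_ne_one h1
  have hsq : ∀ c, l e₀ c * l e₀ c = 1 := by
    intro c
    have hp : e₀ + e₁ ≠ 0 := fun e => by
      have := congrFun e ⟨0, by omega⟩; simp [e₀, e₁, Fin.ext_iff] at this
    have hm : e₀ - e₁ ≠ 0 := fun e => by
      have := congrFun e ⟨0, by omega⟩; simp [e₀, e₁, Fin.ext_iff] at this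
    have key : sympT hA (vec0 e₀ + vec0 e₁) c * sympT hA (vec0 e₀ - vec0 e₁) c =
        sympT hA (vec0 e₀) (c + c) * sympT hA (vec0 e₁) (c + c) := BilinIsom.ext' fun x => by
      simp only [BilinIsom.mul_apply', sympT_apply, map_add, map_sub, map_smul, LinearMap.add_apply,
        LinearMap.sub_apply, LinearMap.smul_apply, smul_eq_mul, vec0_orth]
      module
    have h := congrArg R key
    rw [← vec0_add, ← vec0_sub, map_mul, map_mul, hl, hl, hl, hl, hindep _ hp, hindep _ hm, hindep _ he₁,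
      smul_mul_smul_comm, smul_mul_smul_comm, hdouble] at h
    have hq : quadOp ψ (e₀ + e₁) c * quadOp ψ (e₀ - e₁) c = quadOp ψ e₀ (c + c) * quadOp ψ e₁ (c + c) := by
      simp only [quadOp, mulOp_mul, ← AddChar.map_add_eq_mul, add_dotProduct, sub_dotProduct]
      congr 1; funext x; congr 1; ring
    rw [hq] at h
    have h' : l e₀ c * l e₀ c = l e₀ c * l e₀ c * (l e₀ c * l e₀ c) := by
      have := congrArg (fun T => LinearMap.trace ℂ _
        ((quadUnit ψ e₁ (c + c))⁻¹.val * ((quadUnit ψ e₀ (c + c))⁻¹.val * T))) h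
      simp only [mul_smul_comm, ← mul_assoc, map_smul, smul_eq_mul] at this
      simp only [mul_assoc] at this
      rw [← mul_assoc (quadUnit ψ e₀ (c + c))⁻¹.val,
        show (quadUnit ψ e₀ (c + c))⁻¹.val * quadOp ψ e₀ (c + c) = 1 from (quadUnit ψ e₀ (c + c)).inv_val, one_mul,
        show (quadUnit ψ e₁ (c + c))⁻¹.val * quadOp ψ e₁ (c + c) = 1 from (quadUnit ψ e₁ (c + c)).inv_val,
        LinearMap.trace_one] at this
      simp only [← mul_assoc] at this ⊢
      exact mul_right_cancel₀ (Nat.cast_ne_zero.mpr Module.finrank_pos.ne') this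
    exact mul_left_cancel₀ (mul_ne_zero (hne0 c) (hne0 c)) (by rw [← h', mul_one])
  have hone : ∀ c, l e₀ c = 1 := fun c => by
    have := hdouble (c / 2)
    rwa [hsq, ← two_mul, mul_div_cancel₀ c h2] at this
  rcases eq_or_ne s 0 with rfl | hs
  · rw [show vec0 (0 : Fin n → F) = 0 from by funext i; rcases i with i | i <;> rfl, sympT_zero_vec, map_one]
    simp [quadOp, mulOp_one]
  · rw [hl, hindep s hs, hone, one_smul]

include h2 hψ hR in
theorem omega_sh (hn : 2 ≤ n) (s s' : Fin n → F) (c : F) :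
    R (sh (sympBilin_isAlt n F) (vec0 s) (vec0 s') c) = mulOp fun x => ψ (c * (s ⬝ᵥ x) * (s' ⬝ᵥ x)) := by
  rw [sh, ← vec0_add, map_mul, map_mul, omega_vec0 h2 ψ hψ hR hn, omega_vec0 h2 ψ hψ hR hn,
    omega_vec0 h2 ψ hψ hR hn]
  simp only [quadOp, mulOp_mul, ← AddChar.map_add_eq_mul, add_dotProduct]
  congr 1; funext x; congr 1
  field_simp
  ring

include h2 hψ hR in
/-- The Weil representation is of rank one type. -/
theorem omega_R1 (hn : 2 ≤ n) : R1 (sympBilin_isAlt n F) R := by
  classical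
  intro ψ₀ hψ₀ x w hxw u hu α β γ hα hβ hγ
  set hA := sympBilin_isAlt n F
  obtain ⟨t, ht⟩ := exists_mulShift hψ ψ₀
  obtain ⟨g, hg⟩ := exists_move_vec0 (Submodule.span F ({x, w} : Set (Fin n ⊕ Fin n → F))) (fun a b => by
      obtain ⟨a, ha⟩ := a
      obtain ⟨b, hb⟩ := b
      obtain ⟨a1, a2, rfl⟩ := Submodule.mem_span_pair.mp ha
      obtain ⟨b1, b2, rfl⟩ := Submodule.mem_span_pair.mp hb
      simp [hA x, hA w, hxw, swap hA w x])
    ((finrank_span_pair_le x w).trans hn)
  obtain ⟨s, hs⟩ := hg ⟨x, Submodule.subset_span (by simp)⟩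
  obtain ⟨s', hs'⟩ := hg ⟨w, Submodule.subset_span (by simp)⟩
  obtain ⟨p, hp⟩ := Function.ne_iff.mp (fun e : R g u = 0 => hu (by
    rw [← phi_cancel (χ := R) g u, e, map_zero]))
  rw [Pi.zero_apply] at hp
  have hprim : ∀ a b : F, (∀ c, ψ (a * c) = ψ (b * c)) → a = b := fun a b h =>
    mulShift_inj' hψ (DFunLike.ext _ _ fun c => by simpa using h c)
  have move : ∀ {h h' : F → BilinIsom (sympBilin n F)} {χ : AddChar F ℂ}, u ∈ eig R h χ →
      (∀ c, g * h c * g⁻¹ = h' c) → ∀ c, R (h' c) (R g u) p = χ c * R g u p := by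
    intro h h' χ hmem hh c
    rw [← hh, map_mul, map_mul, Module.End.mul_apply, Module.End.mul_apply, phi_cancel, (mem_eig R).mp hmem,
      map_smul, Pi.smul_apply, smul_eq_mul]
  have e1 : t * α = (s ⬝ᵥ p) ^ 2 / 2 := hprim _ _ fun c => by
    have := move hα (h' := sympT hA (vec0 s)) (fun c => by rw [sympT_conj]; exact congrArg (sympT hA · c) hs) c
    rw [omega_vec0 h2 ψ hψ hR hn, quadOp_apply, AddChar.mulShift_apply, ht] at this
    rw [mul_assoc, ← mul_right_cancel₀ hp this]
    congr 1; ring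
  have e2 : t * β = (s' ⬝ᵥ p) ^ 2 / 2 := hprim _ _ fun c => by
    have := move hβ (h' := sympT hA (vec0 s')) (fun c => by rw [sympT_conj]; exact congrArg (sympT hA · c) hs') c
    rw [omega_vec0 h2 ψ hψ hR hn, quadOp_apply, AddChar.mulShift_apply, ht] at this
    rw [mul_assoc, ← mul_right_cancel₀ hp this]
    congr 1; ring
  have e3 : t * γ = (s ⬝ᵥ p) * (s' ⬝ᵥ p) := hprim _ _ fun c => by
    have := move hγ (h' := sh hA (vec0 s) (vec0 s'))
      (fun c => by rw [conj_sh]; exact congrArg₂ (sh hA · · c) hs hs') c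
    rw [omega_sh h2 ψ hψ hR hn, mulOp_apply, AddChar.mulShift_apply, ht] at this
    rw [mul_assoc, ← mul_right_cancel₀ hp this]
    congr 1; ring
  have ht0 : t ≠ 0 := fun e => hψ₀ (DFunLike.ext _ _ fun c => by simp [ht, e])
  refine mul_left_cancel₀ (mul_ne_zero ht0 ht0) ?_
  calc t * t * γ ^ 2 = (t * γ) ^ 2 := by ring
    _ = (s ⬝ᵥ p) ^ 2 * (s' ⬝ᵥ p) ^ 2 := by rw [e3]; ring
    _ = 4 * (t * α) * (t * β) := by rw [e1, e2]; field_simp; ring
    _ = t * t * (4 * α * β) := by ring

/-- The restriction to the even or odd functions. -/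
noncomputable def half {R : BilinIsom (sympBilin n F) →* Module.End ℂ (Fn F n)}
    (hc : ∀ g, par * R g = R g * par) (ε : ℂ) :
    BilinIsom (sympBilin n F) →* Module.End ℂ (parEig F n ε) :=
  (resEig ε).comp (R.codRestrict (parCent F n) fun g => mem_parCent.mpr (hc g))

theorem half_apply {R : BilinIsom (sympBilin n F) →* Module.End ℂ (Fn F n)}
    (hc : ∀ g, par * R g = R g * par) (ε : ℂ) (g : BilinIsom (sympBilin n F)) (f : parEig F n ε) :
    (half hc ε g f : Fn F n) = R g f := rfl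

theorem mem_half_eig {R : BilinIsom (sympBilin n F) →* Module.End ℂ (Fn F n)}
    (hc : ∀ g, par * R g = R g * par) (ε : ℂ) {A : Type*} [AddCommGroup A] {h : A → BilinIsom (sympBilin n F)}
    {χ : AddChar A ℂ} {f : parEig F n ε} : f ∈ eig (half hc ε) h χ ↔ (f : Fn F n) ∈ eig R h χ := by
  simp only [mem_eig, Subtype.ext_iff, half_apply, Submodule.coe_smul]

include h2 hψ hR in
theorem half_R1 (hn : 2 ≤ n) (ε : ℂ) : R1 (sympBilin_isAlt n F) (half (fun g => (hR g).2) ε) := by
  intro ψ₀ hψ₀ x w hxw u hu α β γ hα hβ hγ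
  exact omega_R1 h2 ψ hψ hR hn ψ₀ hψ₀ x w hxw u (fun e => hu (Subtype.ext e)) α β γ ((mem_half_eig _ _).mp hα)
    ((mem_half_eig _ _).mp hβ) ((mem_half_eig _ _).mp hγ)

include h2 hψ hR in
/-- The characters of a root subgroup lie in one square class. -/
theorem half_class (hn : 2 ≤ n) (ε : ℂ) {x : Fin n ⊕ Fin n → F} {t : F}
    (h : eX (sympBilin_isAlt n F) (half (fun g => (hR g).2) ε) (ψ.mulShift (t / 2)) x ≠ ⊥) : IsSquare t := by
  classical
  set hA := sympBilin_isAlt n F
  obtain ⟨f, hf, hf0⟩ := Submodule.exists_mem_ne_zero_of_ne_bot h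
  obtain ⟨g, hg⟩ := exists_move_vec0 (Submodule.span F ({x} : Set (Fin n ⊕ Fin n → F))) (fun a b => by
      obtain ⟨a, ha⟩ := a
      obtain ⟨b, hb⟩ := b
      obtain ⟨a1, rfl⟩ := Submodule.mem_span_singleton.mp ha
      obtain ⟨b1, rfl⟩ := Submodule.mem_span_singleton.mp hb
      simp [hA x])
    (((finrank_span_le_card _).trans (by simp)).trans (show 1 ≤ n by omega))
  obtain ⟨s, hs⟩ := hg ⟨x, Submodule.subset_span (by simp)⟩
  have hm : (half (fun g => (hR g).2) ε g f : Fn F n) ∈ eig R (sympT hA (vec0 s)) (ψ.mulShift (t / 2)) := by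
    have := eX_conj (g := g) hf
    rw [eX, mem_half_eig] at this
    convert this using 3
    exact hs.symm
  obtain ⟨p, hp⟩ := Function.ne_iff.mp (fun e : (half (fun g => (hR g).2) ε g f : Fn F n) = 0 => hf0 (by
    rw [← phi_cancel (χ := half (fun g => (hR g).2) ε) g f,
      show half (fun g => (hR g).2) ε g f = 0 from Subtype.ext e, map_zero]))
  refine ⟨s ⬝ᵥ p, ?_⟩
  have e : t / 2 = (s ⬝ᵥ p) ^ 2 / 2 := mulShift_inj' hψ (DFunLike.ext _ _ fun c => by
    have := congrFun ((mem_eig R).mp hm c) p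
    rw [omega_vec0 h2 ψ hψ hR hn, quadOp_apply, Pi.smul_apply, smul_eq_mul] at this
    rw [← mul_right_cancel₀ hp this, AddChar.mulShift_apply]
    congr 1; ring)
  field_simp at e
  rw [e, sq]

include h2 hψ hR in
theorem half_eX_ne_bot (hn : 2 ≤ n) {ε : ℂ} (hε : ε * ε = 1) :
    eX (sympBilin_isAlt n F) (half (fun g => (hR g).2) ε) (ψ.mulShift (1 / 2))
      (vec0 (Pi.single (⟨0, by omega⟩ : Fin n) 1)) ≠ ⊥ := by
  classical
  set e₀ : Fin n → F := Pi.single (⟨0, by omega⟩ : Fin n) 1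
  have hpe : (-e₀ : Fin n → F) ≠ e₀ := fun e => by
    have := congrFun e ⟨0, by omega⟩
    simp [e₀] at this
    exact h2 (by linear_combination -this)
  let f : Fn F n := Pi.single e₀ 1 + ε • Pi.single (-e₀) 1
  have hsw : ∀ (a x : Fin n → F), (Pi.single a (1 : ℂ) : Fn F n) (-x) = (Pi.single (-a) (1 : ℂ) : Fn F n) x :=
    fun a x => by simp [Pi.single_apply, neg_eq_iff_eq_neg]
  have hf : f ∈ parEig F n ε := mem_parEig.mpr (funext fun x => by
    simp only [par_apply, f, Pi.add_apply, Pi.smul_apply, smul_eq_mul, hsw, neg_neg]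
    linear_combination -(Pi.single (-e₀) (1 : ℂ) : Fn F n) x * hε)
  refine (Submodule.ne_bot_iff _).mpr ⟨⟨f, hf⟩, ?_, fun e => ?_⟩
  · rw [eX, mem_half_eig, mem_eig]
    intro c
    funext x
    rw [omega_vec0 h2 ψ hψ hR hn, quadOp_apply, Pi.smul_apply, smul_eq_mul, AddChar.mulShift_apply]
    by_cases hx : x = e₀ ∨ x = -e₀
    · congr 2
      rcases hx with rfl | rfl <;> simp [e₀] <;> ring
    · push Not at hx
      simp [f, hx.1, hx.2]
  · have := congrFun (congrArg Subtype.val e) e₀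
    simp [f, Pi.single_eq_of_ne hpe.symm] at this

include h2 hψ hR in
theorem half_neg : ∃ c : ℂ, c ≠ 0 ∧ ∀ ε : ℂ,
    half (fun g => (hR g).2) ε (negIsom (sympBilin n F)) = (c * ε) • 1 := by
  have hi : Intw ψ (negIsom (sympBilin n F)) (par : Module.End ℂ (Fn F n)) := fun v => by
    rw [par_heis, negIsom_apply]
  obtain ⟨c, hc⟩ := intw_unique h2 ψ hψ (M := ⟨par, par, par_sq, par_sq⟩) hi (hR _).1
  refine ⟨c, fun e => ?_, fun ε => LinearMap.ext fun f => Subtype.ext ?_⟩
  · have h1 : R (negIsom (sympBilin n F)) * R (negIsom (sympBilin n F))⁻¹ = 1 := by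
      rw [← map_mul, mul_inv_cancel, map_one]
    rw [hc, e, zero_smul, zero_mul] at h1
    exact zero_ne_one h1
  · rw [half_apply, hc, LinearMap.smul_apply, mem_parEig.mp f.2, smul_smul]
    rfl

include h2 hψ hR in
theorem omega_no_fixed (hn : 2 ≤ n) (f : Fn F n) (hf : ∀ g, R g f = f) : f = 0 := by
  classical
  have hz : ∀ p, f p ≠ 0 → p = 0 := by
    intro p hp
    funext i
    have e : ((Pi.single i (1 : F) : Fin n → F) ⬝ᵥ p) ^ 2 / 2 = 0 := mulShift_inj' hψ (DFunLike.ext _ _ fun c => by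
      have := congrFun (hf (sympT (sympBilin_isAlt n F) (vec0 (Pi.single i 1)) c)) p
      rw [omega_vec0 h2 ψ hψ hR hn, quadOp_apply, mul_eq_right₀ hp] at this
      rw [AddChar.mulShift_apply, AddChar.mulShift_apply, zero_mul, AddChar.map_zero_eq_one]
      rw [← this]
      congr 1; ring)
    simpa [h2] using e
  by_contra h0
  obtain ⟨p, hp⟩ := Function.ne_iff.mp h0
  rw [Pi.zero_apply] at hp
  obtain rfl := hz p hp
  set e₀ : Fin n → F := Pi.single (⟨0, by omega⟩ : Fin n) 1
  let b : Fin n ⊕ Fin n → F := Sum.elim e₀ (fun _ => 0)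
  obtain ⟨g, hg⟩ := sympIsom_transitive (sympBilin_isAlt n F) (sympBilin_nondegenerate n F)
    (vec0_ne (s := e₀) (by simp [e₀])) (show b ≠ 0 from fun e => by
      have := congrFun e (Sum.inl ⟨0, by omega⟩)
      simp [b, e₀] at this)
  have hb : heis ψ (vec0 e₀) f = f := funext fun x => by
    rcases eq_or_ne (f x) 0 with hx | hx
    · simp [heis_apply, fstH_vec0, hx]
    · simp [heis_apply, fstH_vec0, hz x hx]
  have e := congrArg (fun T => T f) ((hR g).1 (vec0 e₀))
  simp only [Module.End.mul_apply, hb, hg, hf] at e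
  have e2 := congrFun e 0
  rw [heis_apply, zero_add] at e2
  have hb0 : fstH b = e₀ := rfl
  rw [hb0] at e2
  have : f e₀ = 0 := by
    by_contra h
    have := congrFun (hz e₀ h) ⟨0, by omega⟩
    simp [e₀] at this
  rw [this, mul_zero] at e2
  exact hp e2

include h2 hψ hR in
theorem half_irr (hn : 2 ≤ n) (hodd : Odd (Fintype.card F)) {ε : ℂ} (hε : ε = 1 ∨ ε = -1) :
    Irr (half (fun g => (hR g).2) ε) := by
  classical
  haveI : Finite (Fin n ⊕ Fin n → F) := inferInstance
  haveI : Finite (BilinIsom (sympBilin n F)) :=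
    haveI : Finite ((Fin n ⊕ Fin n → F) ≃ₗ[F] (Fin n ⊕ Fin n → F)) := Finite.of_injective _ DFunLike.coe_injective
    inferInstance
  set φ := half (fun g => (hR g).2) ε with hφ
  intro X hX
  obtain ⟨Y, hXY⟩ := Cfsg.Lib.Chars.exists_isCompl_subrep (φ : Representation ℂ _ (parEig F n ε))
    ⟨X, fun g v hv => hX g v hv⟩
  have hb : ∀ Z : Submodule ℂ (parEig F n ε), (∀ g, ∀ z ∈ Z, φ g z ∈ Z) →
      Z = ⊥ ∨ Fintype.card F ^ n ≤ 2 * Module.finrank ℂ Z + 1 := by
    intro Z hZ
    by_cases hall : ∀ g, ∀ z ∈ Z, φ g z = z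
    · refine Or.inl ((Submodule.eq_bot_iff _).mpr fun z hz => Subtype.ext ?_)
      exact omega_no_fixed h2 ψ hψ hR hn _ fun g => congrArg Subtype.val (hall g z hz)
    · push Not at hall
      obtain ⟨g, z, hz, hg⟩ := hall
      exact Or.inr (moved_bound (by omega) hodd φ Z hZ hz hg)
  rcases hb X hX with h | h
  · exact Or.inl h
  have hdim : 2 * Module.finrank ℂ (parEig F n ε) ≤ Fintype.card F ^ n + 1 := by
    have h' := finrank_parEig (F := F) (n := n) h2 (ε := ε) (by rcases hε with rfl | rfl <;> norm_num)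
    rcases hε with rfl | rfl
    · have : ((2 * Module.finrank ℂ (parEig F n 1) : ℕ) : ℂ) = ((Fintype.card F ^ n + 1 : ℕ) : ℂ) := by
        push_cast; exact h'
      exact (Nat.cast_injective this).le
    · have : ((2 * Module.finrank ℂ (parEig F n (-1)) + 1 : ℕ) : ℂ) = ((Fintype.card F ^ n : ℕ) : ℂ) := by
        push_cast; linear_combination h'
      have := Nat.cast_injective this
      omega
  have hXY' : IsCompl X Y.toSubmodule := hXY
  rcases hb Y.toSubmodule (fun g z hz => Y.apply_mem_toSubmodule g hz) with hY | hY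
  · right
    rw [hY] at hXY'
    simpa using hXY'.sup_eq_top
  · exfalso
    have := Submodule.finrank_add_eq_of_isCompl hXY'
    have hq : 2 ≤ Fintype.card F := Fintype.one_lt_card
    have : 4 ≤ Fintype.card F ^ n := by
      calc 4 = 2 ^ 2 := by norm_num
        _ ≤ Fintype.card F ^ 2 := Nat.pow_le_pow_left hq 2
        _ ≤ Fintype.card F ^ n := Nat.pow_le_pow_right (by omega) hn
    omega

end Cfsg.Lib.SpWeil
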