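import Mathlib
import Cfsg.Agent.Known.SpWeil.Omega
import Cfsg.Agent.Known.SpWeil.Frames

/-! A representation with a character of rank at least two on an isotropic plane is large. -/

set_option autoImplicit false
set_option linter.unusedSectionVars false
set_option linter.style.haveILetI false

open Cfsg.Lib.Classical Cfsg.Lib.SpMinDeg Cfsg.Lib.RepEigen Matrix

namespace Cfsg.Lib.SpWeil

universe u w

variable {F : Type u} [Field F] [Fintype F] {n : ℕ} {U : Type w} [AddCommGroup U] [Module ℂ U]
  [FiniteDimensional ℂ U] (φ : BilinIsom (sympBilin n F) →* Module.End ℂ U) (ψ : AddChar F ℂ)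

/-- The joint eigenspace of all transvections of `vec0`. -/
noncomputable def eQ (Q : (Fin n → F) → F) : Submodule ℂ U :=
  ⨅ s : Fin n → F, eig φ (sympT (sympBilin_isAlt n F) (vec0 s)) (ψ.mulShift (Q s))

theorem mem_eQ {Q : (Fin n → F) → F} {u : U} :
    u ∈ eQ φ ψ Q ↔ ∀ s, u ∈ eig φ (sympT (sympBilin_isAlt n F) (vec0 s)) (ψ.mulShift (Q s)) := by
  simp [eQ, Submodule.mem_iInf]

variable {φ ψ}

theorem eQ_move {Q : (Fin n → F) → F} {u : U} (hu : u ∈ eQ φ ψ Q) {g : BilinIsom (sympBilin n F)}
    {h : (Fin n → F) → (Fin n → F)}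
    (hg : ∀ s, (g : (Fin n ⊕ Fin n → F) ≃ₗ[F] (Fin n ⊕ Fin n → F)) (vec0 (h s)) = vec0 s) :
    φ g u ∈ eQ φ ψ fun s => Q (h s) := by
  rw [mem_eQ] at hu ⊢
  intro s
  refine (mem_eig φ).mpr fun c => ?_
  rw [← hg s, ← sympT_conj, map_mul, map_mul, Module.End.mul_apply, Module.End.mul_apply, phi_cancel,
    (mem_eig φ).mp (hu (h s)) c, map_smul]

theorem card_eQ_le (hψ : ψ ≠ 1) (T : Finset ((Fin n → F) → F)) (hT : ∀ Q ∈ T, eQ φ ψ Q ≠ ⊥) :
    T.card ≤ Module.finrank ℂ U := by
  classical
  have hA := sympBilin_isAlt n F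
  choose v hv hv0 using fun Q : T => Submodule.exists_mem_ne_zero_of_ne_bot (hT Q Q.2)
  let pr : ((Fin n → F) → F) → List (Fin n → F) → Module.End ℂ U := fun Q₀ l =>
    (l.map fun s => proj φ (sympT (sympBilin_isAlt n F) (vec0 s)) (ψ.mulShift (Q₀ s))).prod
  have hpr : ∀ (Q₀ : T) (l : List (Fin n → F)) (Q : T),
      pr Q₀ l (v Q) = if ∀ s ∈ l, (Q : (Fin n → F) → F) s = (Q₀ : (Fin n → F) → F) s then v Q else 0 := by
    intro Q₀ l Q
    induction l with
    | nil => simp [pr]
    | cons a l ih =>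
      simp only [pr, List.map_cons, List.prod_cons, Module.End.mul_apply] at ih ⊢
      rw [ih]
      have hadd : ∀ c d : F, sympT (sympBilin_isAlt n F) (vec0 a) (c + d) =
          sympT (sympBilin_isAlt n F) (vec0 a) c * sympT (sympBilin_isAlt n F) (vec0 a) d :=
        fun c d => sympT_add _ _ c d
      by_cases h : ∀ s ∈ l, (Q : (Fin n → F) → F) s = (Q₀ : (Fin n → F) → F) s
      · rw [if_pos h]
        by_cases ha : (Q : (Fin n → F) → F) a = (Q₀ : (Fin n → F) → F) a
        · rw [if_pos (fun s hs => (List.mem_cons.mp hs).elim (fun e => by rw [e]; exact ha) (h s)), ← ha]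
          exact proj_self φ hadd (mem_eQ φ ψ |>.mp (hv Q) a)
        · rw [if_neg (fun e => ha (e a (List.mem_cons_self ..)))]
          exact proj_other φ hadd (fun e => ha (mulShift_inj' hψ e).symm) (mem_eQ φ ψ |>.mp (hv Q) a)
      · rw [if_neg h, if_neg (fun e => h fun s hs => e s (List.mem_cons_of_mem _ hs)), map_zero]
  have hli : LinearIndependent ℂ v := by
    rw [Fintype.linearIndependent_iff]
    intro c hc Q₀
    have e := congrArg (pr Q₀ Finset.univ.toList) hc
    simp only [map_sum, map_smul, hpr, map_zero, Finset.mem_toList, Finset.mem_univ, forall_true_left] at e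
    rw [Finset.sum_eq_single Q₀ (fun Q _ hQ => by
        rw [if_neg (fun h => hQ (Subtype.ext (funext h))), smul_zero])
      (fun h => absurd (Finset.mem_univ _) h), if_pos fun _ => rfl] at e
    exact (smul_eq_zero.mp e).resolve_right (hv0 Q₀)
  simpa using hli.fintype_card_le_finrank

theorem exists_eQ (hψ : ψ ≠ 1) {u : U} (hu : u ≠ 0) (P : U → Prop) (hP : P u)
    (hstep : ∀ (s : Fin n → F) (χ : AddChar F ℂ) (v : U), P v →
      P (proj φ (sympT (sympBilin_isAlt n F) (vec0 s)) χ v)) :
    ∃ Q v, v ≠ 0 ∧ P v ∧ v ∈ eQ φ ψ Q := by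
  classical
  have key : ∀ l : List (Fin n → F), ∃ v, v ≠ 0 ∧ P v ∧ ∀ s ∈ l, ∃ t,
      v ∈ eig φ (sympT (sympBilin_isAlt n F) (vec0 s)) (ψ.mulShift t) := by
    intro l
    induction l with
    | nil => exact ⟨u, hu, hP, by simp⟩
    | cons a l ih =>
      obtain ⟨v, hv0, hvP, hv⟩ := ih
      obtain ⟨χ, hχ⟩ := exists_proj_ne φ (f := sympT (sympBilin_isAlt n F) (vec0 a))
        (fun c d => sympT_add _ _ c d) hv0
      refine ⟨_, hχ, hstep a χ v hvP, fun s hs => ?_⟩
      rcases List.mem_cons.mp hs with rfl | hs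
      · obtain ⟨t, ht⟩ := exists_mulShift hψ χ
        refine ⟨t, ?_⟩
        rw [show ψ.mulShift t = χ from DFunLike.ext _ _ fun c => by rw [ht, AddChar.mulShift_apply]]
        exact proj_mem_eig φ (fun c d => sympT_add _ _ c d) χ v
      · obtain ⟨t, ht⟩ := hv s hs
        exact ⟨t, proj_mem_eig_comm φ (fun c d => sympT_commute _ (vec0_orth a s) c d) χ ht⟩
  obtain ⟨v, hv0, hvP, hv⟩ := key Finset.univ.toList
  choose Q hQ using fun s => hv s (Finset.mem_toList.mpr (Finset.mem_univ s))
  exact ⟨Q, v, hv0, hvP, (mem_eQ φ ψ).mpr hQ⟩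

theorem pi_surjective {r : ℕ} {a : Fin r → Module.Dual F (Fin n → F)} (ha : LinearIndependent F a) :
    Function.Surjective (LinearMap.pi a) := by
  classical
  rw [← LinearMap.range_eq_top]
  by_contra hc
  obtain ⟨c, hc0, hck⟩ := Submodule.exists_le_ker_of_lt_top _ (lt_top_iff_ne_top.mpr hc)
  have hexp : ∀ x, c x = ∑ i, x i * c (Pi.single i 1) := fun x => by
    conv_lhs => rw [pi_eq_sum_univ' x]
    simp [map_sum]
  have : ∑ i, c (Pi.single i 1) • a i = 0 := LinearMap.ext fun s => by
    have h : c (LinearMap.pi a s) = 0 := LinearMap.mem_ker.mp (hck ⟨s, rfl⟩)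
    rw [hexp] at h
    rw [LinearMap.sum_apply, LinearMap.zero_apply, ← h]
    exact Finset.sum_congr rfl fun i _ => by simp [mul_comm]
  exact hc0 (LinearMap.ext fun x => by
    rw [hexp, LinearMap.zero_apply]
    exact Finset.sum_eq_zero fun i _ => by rw [Fintype.linearIndependent_iff.mp ha _ this i, mul_zero])

theorem exists_linearEquiv_pi {r : ℕ} {L L' : (Fin n → F) →ₗ[F] (Fin r → F)} (hL : Function.Surjective L)
    (hL' : Function.Surjective L') : ∃ h : (Fin n → F) ≃ₗ[F] (Fin n → F), ∀ s, L (h s) = L' s := by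
  obtain ⟨σ, hσ⟩ := L.exists_rightInverse_of_surjective (LinearMap.range_eq_top.mpr hL)
  obtain ⟨σ', hσ'⟩ := L'.exists_rightInverse_of_surjective (LinearMap.range_eq_top.mpr hL')
  have hσa : ∀ x, L (σ x) = x := fun x => LinearMap.congr_fun hσ x
  have hσb : ∀ x, L' (σ' x) = x := fun x => LinearMap.congr_fun hσ' x
  have hd : Module.finrank F (LinearMap.ker L') = Module.finrank F (LinearMap.ker L) := by
    have h1 := L.finrank_range_add_finrank_ker
    have h3 := L'.finrank_range_add_finrank_ker
    rw [LinearMap.range_eq_top.mpr hL, finrank_top] at h1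
    rw [LinearMap.range_eq_top.mpr hL', finrank_top] at h3
    omega
  let k : LinearMap.ker L' ≃ₗ[F] LinearMap.ker L := LinearEquiv.ofFinrankEq _ _ hd
  let p : (Fin n → F) →ₗ[F] LinearMap.ker L' := LinearMap.codRestrict _ (LinearMap.id - σ' ∘ₗ L') fun s => by
    simp [hσb]
  let h : (Fin n → F) →ₗ[F] (Fin n → F) := (LinearMap.ker L).subtype ∘ₗ k.toLinearMap ∘ₗ p + σ ∘ₗ L'
  have hLh : ∀ s, L (h s) = L' s := fun s => by
    simp [h, hσa]
  have hinj : Function.Injective h := by
    rw [← LinearMap.ker_eq_bot, Submodule.eq_bot_iff]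
    intro s hs
    rw [LinearMap.mem_ker] at hs
    have h0 : L' s = 0 := by rw [← hLh, hs, map_zero]
    have hk : k (p s) = 0 := Subtype.ext (by simpa [h, h0] using hs)
    have hp := congrArg (Subtype.val : LinearMap.ker L' → _) (k.map_eq_zero_iff.mp hk)
    simpa [p, h0] using hp
  exact ⟨LinearEquiv.ofBijective h ⟨hinj, LinearMap.surjective_of_injective hinj⟩, hLh⟩

theorem fibre_le (h2 : (2 : F) ≠ 0) {r : ℕ} {d : Fin r → F} (hd : ∀ i, d i ≠ 0) (Q₀ : (Fin n → F) → F) :
    Nat.card {a : {a : Fin r → Module.Dual F (Fin n → F) // LinearIndependent F a} //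
      (fun s => ∑ k, d k * a.1 k s ^ 2) = Q₀} ≤ frameBound (Fintype.card F) r := by
  classical
  set A := {a : {a : Fin r → Module.Dual F (Fin n → F) // LinearIndependent F a} //
    (fun s => ∑ k, d k * a.1 k s ^ 2) = Q₀}
  by_cases he : IsEmpty A
  · simp
  rw [not_isEmpty_iff] at he
  obtain ⟨a₀⟩ := he
  choose u hu using fun j : Fin r => pi_surjective a₀.1.2 (Pi.single j 1)
  have hu' : ∀ k j, a₀.1.1 k (u j) = if k = j then 1 else 0 := fun k j => by
    have := congrFun (hu j) k
    rw [LinearMap.pi_apply, Pi.single_apply] at this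
    exact this
  have hpol : ∀ (a : A) s t, ∑ k, d k * (a.1.1 k s * a.1.1 k t) = ∑ k, d k * (a₀.1.1 k s * a₀.1.1 k t) := by
    intro a s t
    have e := fun x => congrFun (a.2.trans a₀.2.symm) x
    have h := e (s + t)
    simp only [map_add] at h
    have hexp : ∀ b : A, ∑ k, d k * (b.1.1 k s + b.1.1 k t) ^ 2 =
        ∑ k, d k * b.1.1 k s ^ 2 + 2 * ∑ k, d k * (b.1.1 k s * b.1.1 k t) + ∑ k, d k * b.1.1 k t ^ 2 := fun b => by
      rw [Finset.mul_sum, ← Finset.sum_add_distrib, ← Finset.sum_add_distrib]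
      exact Finset.sum_congr rfl fun k _ => by ring
    rw [hexp, hexp, e s, e t, add_left_inj, add_right_inj] at h
    exact mul_left_cancel₀ h2 h
  let b : LinearMap.BilinForm F (Fin r → F) :=
    LinearMap.mk₂ F (fun x y => ∑ k, d k * (x k * y k))
      (fun x x' y => by rw [← Finset.sum_add_distrib]; exact Finset.sum_congr rfl fun k _ => by simp; ring)
      (fun c x y => by rw [smul_eq_mul, Finset.mul_sum]; exact Finset.sum_congr rfl fun k _ => by simp; ring)
      (fun x y y' => by rw [← Finset.sum_add_distrib]; exact Finset.sum_congr rfl fun k _ => by simp; ring)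
      (fun c x y => by rw [smul_eq_mul, Finset.mul_sum]; exact Finset.sum_congr rfl fun k _ => by simp; ring)
  have hb : ∀ x y, b x y = ∑ k, d k * (x k * y k) := fun _ _ => rfl
  have hbn : ∀ x, (∀ y, b x y = 0) → x = 0 := fun x hx => funext fun k => by
    have := hx (Pi.single k 1)
    rw [hb, Finset.sum_eq_single k (fun j _ hj => by simp [hj]) (fun h => absurd (Finset.mem_univ _) h)] at this
    simpa [hd k] using this
  let f : A → {w : Fin r → (Fin r → F) // ∀ i j, b (w i) (w j) = if i = j then d i else 0} := fun a =>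
    ⟨fun j k => a.1.1 k (u j), fun i j => by
      rw [hb, hpol a (u i) (u j)]
      simp [hu']
      by_cases hij : i = j
      · subst hij; simp
      · simp [hij, Ne.symm hij]⟩
  refine le_trans (Nat.card_le_card_of_injective f ?_)
    (frames_le h2 r b (fun x y => by rw [hb, hb]; exact Finset.sum_congr rfl fun k _ => by ring) hbn
      (Module.finrank_fin_fun F) d hd)
  intro a a' e
  have hrep : ∀ (a : A) k s, a.1.1 k s = ∑ j, a₀.1.1 j s * a.1.1 k (u j) := by
    intro a k s
    set s₀ := s - ∑ j, a₀.1.1 j s • u j with hs₀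
    have h0 : ∀ i, a₀.1.1 i s₀ = 0 := fun i => by simp [hs₀, map_sum, hu']
    have hz : ∑ i, (d i * a.1.1 i s₀) • a.1.1 i = 0 := LinearMap.ext fun t => by
      have := hpol a s₀ t
      simp only [h0, zero_mul, mul_zero, Finset.sum_const_zero] at this
      rw [LinearMap.sum_apply, LinearMap.zero_apply, ← this]
      exact Finset.sum_congr rfl fun i _ => by simp [mul_assoc]
    have := (mul_eq_zero.mp (Fintype.linearIndependent_iff.mp a.1.2 _ hz k)).resolve_left (hd k)
    rw [hs₀, map_sub, sub_eq_zero, map_sum] at this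
    rw [this]
    simp
  refine Subtype.ext (Subtype.ext (funext fun k => LinearMap.ext fun s => ?_))
  rw [hrep a k s, hrep a' k s]
  exact Finset.sum_congr rfl fun j _ => congrArg _ (congrFun (congrFun (congrArg Subtype.val e) j) k)

/-- The orbit of a form of rank at least two forces a large degree. -/
theorem eQ_rank_bound (hn : 2 ≤ n) (hodd : Odd (Fintype.card F)) (hψ : ψ ≠ 1) {r : ℕ} (hr : 2 ≤ r)
    {d : Fin r → F} (hd : ∀ i, d i ≠ 0) {a₀ : Fin r → Module.Dual F (Fin n → F)} (ha₀ : LinearIndependent F a₀)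
    (hne : eQ φ ψ (fun s => ∑ k, d k * a₀ k s ^ 2) ≠ ⊥) :
    (Fintype.card F ^ n - 1) * (Fintype.card F ^ n - Fintype.card F) ≤
      2 * (Fintype.card F + 1) * Module.finrank ℂ U := by
  classical
  set q := Fintype.card F
  have hA := sympBilin_isAlt n F
  haveI : Finite (Module.Dual F (Fin n → F)) := Module.finite_of_finite F
  have hdim : Module.finrank F (Module.Dual F (Fin n → F)) = n := by
    rw [Subspace.dual_finrank_eq, Module.finrank_fin_fun]
  have hrn : r ≤ n := by
    have := ha₀.fintype_card_le_finrank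
    rwa [hdim, Fintype.card_fin] at this
  let A := {a : Fin r → Module.Dual F (Fin n → F) // LinearIndependent F a}
  haveI := Fintype.ofFinite A
  let Qf : A → (Fin n → F) → F := fun a s => ∑ k, d k * a.1 k s ^ 2
  have hsup : ∀ a : A, eQ φ ψ (Qf a) ≠ ⊥ := by
    intro a
    obtain ⟨h, hh⟩ := exists_linearEquiv_pi (pi_surjective ha₀) (pi_surjective a.2)
    let W : Submodule F (Fin n ⊕ Fin n → F) := LinearMap.range (vec0L (F := F) (n := n))
    have hsinj : Function.Injective (vec0L (F := F) (n := n)) := fun s t e => congrArg sndH e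
    let e := LinearEquiv.ofInjective _ hsinj
    obtain ⟨g, hg⟩ := exists_sympIsom_extend hA (sympBilin_nondegenerate n F) (X := W)
      (vec0L ∘ₗ h.symm.toLinearMap ∘ₗ e.symm.toLinearMap)
      (hsinj.comp (h.symm.injective.comp e.symm.injective))
      (fun x y => by
        obtain ⟨s, hs⟩ := x.2
        obtain ⟨t, ht⟩ := y.2
        rw [← hs, ← ht]
        exact (vec0_orth _ _).trans (vec0_orth s t).symm)
    obtain ⟨v, hv, hv0⟩ := Submodule.exists_mem_ne_zero_of_ne_bot hne
    have hmem := eQ_move hv (g := g) (h := h) fun s => by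
      have := hg (e (h s))
      simp only [LinearMap.comp_apply, LinearEquiv.coe_coe, LinearEquiv.symm_apply_apply] at this
      exact this
    refine (Submodule.ne_bot_iff _).mpr ⟨φ g v, ?_, fun e => hv0 (by rw [← phi_cancel (χ := φ) g v, e, map_zero])⟩
    convert hmem using 2
    funext s
    refine Finset.sum_congr rfl fun k _ => ?_
    have := congrFun (hh s) k
    rw [LinearMap.pi_apply, LinearMap.pi_apply] at this
    rw [this]
  have h1 : (Finset.univ.image Qf).card ≤ Module.finrank ℂ U := card_eQ_le hψ _ fun Q hQ => by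
    obtain ⟨a, -, rfl⟩ := Finset.mem_image.mp hQ
    exact hsup a
  have h3 : Fintype.card A ≤ frameBound q r * (Finset.univ.image Qf).card := by
    rw [← Finset.card_univ]
    refine Finset.card_le_mul_card_image (f := Qf) _ _ fun Q _ => ?_
    rw [← Fintype.card_subtype, ← Nat.card_eq_fintype_card]
    exact fibre_le (two_ne hodd) hd Q
  have hcard : Fintype.card A = ∏ i : Fin r, (q ^ n - q ^ (i : ℕ)) := by
    rw [← Nat.card_eq_fintype_card, card_linearIndependent (by rw [hdim]; exact hrn), hdim]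
  have hq : 3 ≤ q := by
    have := Fintype.one_lt_card (α := F)
    obtain ⟨j, hj⟩ := hodd
    omega
  have h5 := frameBound_le (F := F) (n := n) hq r hr hrn
  rw [← hcard] at h5
  have hpos : 0 < frameBound q r := frameBound_pos (by omega) r
  refine Nat.le_of_mul_le_mul_right (h5.trans ?_) hpos
  calc 2 * (q + 1) * Fintype.card A ≤ 2 * (q + 1) * (frameBound q r * (Finset.univ.image Qf).card) :=
        Nat.mul_le_mul_left _ h3
    _ ≤ 2 * (q + 1) * (frameBound q r * Module.finrank ℂ U) := Nat.mul_le_mul_left _ (Nat.mul_le_mul_left _ h1)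
    _ = _ := by ring

/-- A representation not of rank one type is large. -/
theorem not_R1_bound (hn : 2 ≤ n) (hodd : Odd (Fintype.card F)) (h : ¬ R1 (sympBilin_isAlt n F) φ) :
    (Fintype.card F ^ n - 1) * (Fintype.card F ^ n - Fintype.card F) ≤
      2 * (Fintype.card F + 1) * Module.finrank ℂ U := by
  classical
  have h2 := two_ne hodd
  unfold R1 at h
  push Not at h
  obtain ⟨ψ, hψ, x, w, hxw, u, hu, α, β, γ, hα, hβ, hγ, hne⟩ := h
  set hA := sympBilin_isAlt n F
  obtain ⟨g, hg⟩ := exists_move_vec0 (Submodule.span F ({x, w} : Set (Fin n ⊕ Fin n → F))) (fun a b => by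
      obtain ⟨a, ha⟩ := a
      obtain ⟨b, hb⟩ := b
      obtain ⟨a1, a2, rfl⟩ := Submodule.mem_span_pair.mp ha
      obtain ⟨b1, b2, rfl⟩ := Submodule.mem_span_pair.mp hb
      simp [hA x, hA w, hxw, swap hA w x])
    ((finrank_span_pair_le x w).trans hn)
  obtain ⟨s, hs⟩ := hg ⟨x, Submodule.subset_span (by simp)⟩
  obtain ⟨s', hs'⟩ := hg ⟨w, Submodule.subset_span (by simp)⟩
  let P : U → Prop := fun v => v ∈ eig φ (sympT hA (vec0 s)) (ψ.mulShift α) ∧
    v ∈ eig φ (sympT hA (vec0 s')) (ψ.mulShift β) ∧ v ∈ eig φ (sh hA (vec0 s) (vec0 s')) (ψ.mulShift γ)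
  have hcsh : ∀ (t a b : Fin n → F) (c l : F), Commute (sympT hA (vec0 t) c) (sh hA (vec0 a) (vec0 b) l) :=
    fun t a b c l => (commute_sh_sympT (vec0_orth a b) (vec0_orth t a) (vec0_orth t b) l c).symm
  have hP : P (φ g u) := by
    refine ⟨(mem_eig φ).mpr fun c => ?_, (mem_eig φ).mpr fun c => ?_, (mem_eig φ).mpr fun c => ?_⟩
    · rw [← hs, ← sympT_conj, map_mul, map_mul, Module.End.mul_apply, Module.End.mul_apply, phi_cancel,
        (mem_eig φ).mp hα c, map_smul]
    · rw [← hs', ← sympT_conj, map_mul, map_mul, Module.End.mul_apply, Module.End.mul_apply, phi_cancel,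
        (mem_eig φ).mp hβ c, map_smul]
    · rw [← hs, ← hs', ← conj_sh, map_mul, map_mul, Module.End.mul_apply, Module.End.mul_apply, phi_cancel,
        (mem_eig φ).mp hγ c, map_smul]
  obtain ⟨Q, v, hv0, ⟨hvα, hvβ, hvγ⟩, hv⟩ := exists_eQ (φ := φ) hψ
    (fun e : φ g u = 0 => hu (by rw [← phi_cancel (χ := φ) g u, e, map_zero])) P hP
    fun t χ v ⟨h1, h3, h4⟩ =>
      ⟨proj_mem_eig_comm φ (fun c d => sympT_commute hA (vec0_orth t s) c d) χ h1,
        proj_mem_eig_comm φ (fun c d => sympT_commute hA (vec0_orth t s') c d) χ h3,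
        proj_mem_eig_comm φ (fun c l => hcsh t s s' c l) χ h4⟩
  rw [mem_eQ] at hv
  have uniq : ∀ {f : F → BilinIsom (sympBilin n F)} {a b : F}, v ∈ eig φ f (ψ.mulShift a) →
      v ∈ eig φ f (ψ.mulShift b) → a = b := fun h1 h3 => mulShift_inj' hψ (DFunLike.ext _ _ fun c =>
    smul_left_injective ℂ hv0 (((mem_eig φ).mp h1 c).symm.trans ((mem_eig φ).mp h3 c)))
  let pol : (Fin n → F) → (Fin n → F) → F := fun a b => Q (a + b) - Q a - Q b
  have hpol : ∀ a b, v ∈ eig φ (sh hA (vec0 a) (vec0 b)) (ψ.mulShift (pol a b)) := fun a b =>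
    (mem_eig φ).mpr fun c => by
      rw [sh, ← vec0_add, map_mul, map_mul, Module.End.mul_apply, Module.End.mul_apply,
        (mem_eig φ).mp (hv b), map_smul, (mem_eig φ).mp (hv a), map_smul, map_smul, (mem_eig φ).mp (hv (a + b)),
        smul_smul, smul_smul]
      congr 1
      simp only [pol, AddChar.mulShift_apply, ← AddChar.map_add_eq_mul]
      congr 1
      ring
  have hQs : ∀ (c : F) a, Q (c • a) = c ^ 2 * Q a := fun c a => uniq (hv (c • a)) (by
    rw [vec0_smul, mul_comm]
    exact eig_sympT_smul (hv a) c)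
  have padd : ∀ a b b', pol a (b + b') = pol a b + pol a b' := fun a b b' => uniq (hpol a (b + b'))
    ((mem_eig φ).mpr fun c => by
      rw [vec0_add, sh_add_right (vec0_orth a b) (vec0_orth a b') (vec0_orth b b'), map_mul, Module.End.mul_apply,
        (mem_eig φ).mp (hpol a b'), map_smul, (mem_eig φ).mp (hpol a b), smul_smul]
      congr 1
      simp only [AddChar.mulShift_apply, ← AddChar.map_add_eq_mul]
      congr 1
      ring)
  have psmul : ∀ (c : F) a b, pol a (c • b) = c * pol a b := fun c a b => uniq (hpol a (c • b))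
    ((mem_eig φ).mpr fun l => by
      rw [vec0_smul, sh_smul (vec0_orth a b), (mem_eig φ).mp (hpol a b), AddChar.mulShift_apply,
        AddChar.mulShift_apply]
      congr 2
      ring)
  have psymm : ∀ a b, pol a b = pol b a := fun a b => by simp only [pol, add_comm a b]; ring
  let b : LinearMap.BilinForm F (Fin n → F) := LinearMap.mk₂ F (fun a c => pol a c / 2)
    (fun a a' c => by rw [psymm, padd, psymm c a, psymm c a', add_div])
    (fun k a c => by rw [psymm, psmul, psymm c a, smul_eq_mul, mul_div_assoc])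
    (fun a c c' => by rw [padd, add_div])
    (fun k a c => by rw [psmul, smul_eq_mul, mul_div_assoc])
  have hbs : ∀ a c, b a c = b c a := fun a c => by
    change pol a c / 2 = pol c a / 2
    rw [psymm]
  have hbb : ∀ a, b a a = Q a := fun a => by
    change pol a a / 2 = Q a
    simp only [pol, ← two_smul F a, hQs]
    field_simp
    ring
  haveI : Invertible (2 : F) := invertibleOfNonzero h2
  obtain ⟨e, he⟩ := LinearMap.BilinForm.exists_orthogonal_basis (B := b)
    (LinearMap.isSymm_def.mpr fun a c => by simpa using hbs a c)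
  set D : Fin (Module.finrank F (Fin n → F)) → F := fun i => b (e i) (e i) with hD
  have hexp : ∀ a c, b a c = ∑ i, D i * (e.coord i a * e.coord i c) := by
    intro a c
    conv_lhs => rw [← e.sum_repr a, ← e.sum_repr c]
    simp only [map_sum, map_smul, LinearMap.coe_sum, Finset.sum_apply, LinearMap.smul_apply, smul_eq_mul]
    refine Finset.sum_congr rfl fun i _ => ?_
    rw [Finset.sum_eq_single i (fun j _ hj => by simp [he hj, he hj.symm]) (fun h => absurd (Finset.mem_univ _) h)]
    simp [hD, Module.Basis.coord_apply]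
    ring
  set I := Finset.univ.filter fun i => D i ≠ 0 with hI
  have hI2 : 2 ≤ I.card := by
    by_contra hlt
    have hone : ∀ i ∈ I, ∀ j ∈ I, i = j := fun i hi j hj =>
      Finset.card_le_one.mp (show I.card ≤ 1 by omega) i hi j hj
    refine hne ?_
    rw [uniq hvα (hv s), uniq hvβ (hv s'), uniq hvγ (hpol s s'),
      show pol s s' = 2 * b s s' from (mul_div_cancel₀ _ h2).symm, ← hbb s, ← hbb s', hexp s s', hexp s s, hexp s' s']
    have hfil : ∀ a c, ∑ i, D i * (e.coord i a * e.coord i c) = ∑ i ∈ I, D i * (e.coord i a * e.coord i c) :=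
      fun a c => (Finset.sum_subset (Finset.subset_univ _) fun i _ hi => by
        rw [hI, Finset.mem_filter] at hi
        push Not at hi
        rw [hi (Finset.mem_univ _), zero_mul]).symm
    rw [hfil, hfil, hfil]
    rcases I.eq_empty_or_nonempty with h0 | ⟨i, hi⟩
    · simp [h0]
    · rw [show I = {i} from Finset.eq_singleton_iff_unique_mem.mpr ⟨hi, fun j hj => hone j hj i hi⟩,
        Finset.sum_singleton, Finset.sum_singleton, Finset.sum_singleton]
      ring
  let en := I.equivFin.symm
  refine eQ_rank_bound (φ := φ) hn hodd hψ hI2 (d := fun k => D (en k))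
    (fun k => (Finset.mem_filter.mp (en k).2).2) (a₀ := fun k => e.coord (en k)) ?_ ?_
  · have hc : LinearIndependent F e.coord := by
      rw [← Module.Basis.coe_dualBasis]
      exact e.dualBasis.linearIndependent
    exact hc.comp _ (Subtype.val_injective.comp en.injective)
  · refine (Submodule.ne_bot_iff _).mpr ⟨v, ?_, hv0⟩
    rw [mem_eQ]
    intro a
    rw [show ∑ k, D (en k) * e.coord (en k) a ^ 2 = Q a by
      rw [← hbb, hexp, Fintype.sum_equiv en (fun k => D (en k) * e.coord (en k) a ^ 2)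
          (fun i : I => D i * e.coord (i : _) a ^ 2) (fun k => rfl),
        Finset.sum_coe_sort I (fun i => D i * e.coord i a ^ 2), hI, Finset.sum_filter]
      refine Finset.sum_congr rfl fun i _ => ?_
      split_ifs with h0
      · ring
      · push Not at h0; rw [h0, zero_mul]]
    exact hv a

end Cfsg.Lib.SpWeil
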