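import Mathlib
import Cfsg.Agent.Known.SpWeil.Orbit
import Cfsg.Prelude.Def_Characters

/-! The four Weil characters and the degree gap above them. -/

set_option autoImplicit false
set_option linter.unusedSectionVars false
set_option linter.style.haveILetI false

open Cfsg.Lib.Classical Cfsg.Lib.SpMinDeg Cfsg.Lib.RepEigen Matrix

namespace Cfsg.Lib.SpWeil

universe u w

variable {F : Type u} [Field F] [Fintype F] {n : ℕ}

theorem trace_pX_eq_sum {V : Type*} [AddCommGroup V] [Module F V] {B : LinearMap.BilinForm F V} (hA : B.IsAlt)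
    {U : Type w} [AddCommGroup U] [Module ℂ U] (φ : BilinIsom B →* Module.End ℂ U) (ψ : AddChar F ℂ) (x : V) :
    LinearMap.trace ℂ U (pX hA φ ψ x) =
      (Fintype.card F : ℂ)⁻¹ * ∑ c, ψ (-c) * LinearMap.trace ℂ U (φ (sympT hA x c)) := by
  simp [pX, proj, map_sum]

theorem exists_nonsquare (hodd : Odd (Fintype.card F)) : ∃ ν : F, ¬ IsSquare ν :=
  FiniteField.exists_nonsquare fun h => Nat.not_even_iff_odd.mpr hodd
    (Nat.even_iff.mpr (FiniteField.even_card_iff_char_two.mp h))

theorem isSquare_div_nonsquare (hodd : Odd (Fintype.card F)) {t ν : F} (ht : ¬ IsSquare t) (hν : ¬ IsSquare ν) :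
    IsSquare (t / ν) := by
  classical
  have hc : ringChar F ≠ 2 := fun h => Nat.not_even_iff_odd.mpr hodd
    (Nat.even_iff.mpr (FiniteField.even_card_iff_char_two.mp h))
  have hν0 : ν ≠ 0 := fun e => hν (e ▸ IsSquare.zero)
  have ht0 : t ≠ 0 := fun e => ht (e ▸ IsSquare.zero)
  have h : IsSquare (t * ν) := (quadraticChar_one_iff_isSquare (mul_ne_zero ht0 hν0)).mp (by
    rw [map_mul, (quadraticChar_neg_one_iff_not_isSquare).mpr ht, (quadraticChar_neg_one_iff_not_isSquare).mpr hν]
    norm_num)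
  obtain ⟨a, ha⟩ := h
  exact ⟨a / ν, by field_simp; linear_combination ha⟩

theorem toMatrixRep_irr {U : Type w} [AddCommGroup U] [Module ℂ U] [Nontrivial U]
    {φ : BilinIsom (sympBilin n F) →* Module.End ℂ U} (h : Irr φ) :
    Representation.IsIrreducible
      (φ.comp (sympEquiv n F).toMonoidHom : Representation ℂ (symplecticGroup (Fin n) F) U) := by
  let ρ : Representation ℂ (symplecticGroup (Fin n) F) U := φ.comp (sympEquiv n F).toMonoidHom
  change ρ.IsIrreducible
  haveI : Nontrivial (Subrepresentation ρ) := ⟨⟨⊥, ⊤, fun e => by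
    have h' : (⊥ : Submodule ℂ U) = ⊤ := congrArg Subrepresentation.toSubmodule e
    exact bot_ne_top h'⟩⟩
  refine ⟨fun S => ?_⟩
  rcases h S.toSubmodule (fun g x hx => by
    have := S.apply_mem_toSubmodule ((sympEquiv n F).symm g) hx
    simpa [ρ] using this) with e | e
  · exact Or.inl (Subrepresentation.toSubmodule_injective e)
  · exact Or.inr (Subrepresentation.toSubmodule_injective e)

theorem vec0_e0_ne (hn : 2 ≤ n) : vec0 (F := F) (Pi.single (⟨0, by omega⟩ : Fin n) 1) ≠ 0 :=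
  vec0_ne (by simp)

/-- A root subgroup of an irreducible non-trivial representation has a character of one of two classes. -/
theorem exists_class (hn : 2 ≤ n) (hodd : Odd (Fintype.card F)) {U : Type w} [AddCommGroup U] [Module ℂ U]
    {φ : BilinIsom (sympBilin n F) →* Module.End ℂ U} {g₀ : BilinIsom (sympBilin n F)} (hg : φ g₀ ≠ 1)
    {ψ : AddChar F ℂ} (hψ : ψ ≠ 1) {ν : F} (hν : ¬ IsSquare ν) {x₀ : Fin n ⊕ Fin n → F} (hx₀ : x₀ ≠ 0) :
    eX (sympBilin_isAlt n F) φ ψ x₀ ≠ ⊥ ∨ eX (sympBilin_isAlt n F) φ (ψ.mulShift ν) x₀ ≠ ⊥ := by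
  classical
  set hA := sympBilin_isAlt n F
  obtain ⟨v, c, u, hu⟩ : ∃ v c u, φ (sympT hA v c) u ≠ u := by
    by_contra hc
    push Not at hc
    refine hg ?_
    have ht : g₀ ∈ transGroup hA := by
      rw [transGroup_eq_top hA (sympBilin_nondegenerate n F)]; trivial
    clear hg
    induction ht using Subgroup.closure_induction with
    | mem t ht => obtain ⟨v, -, c, rfl⟩ := ht; exact LinearMap.ext fun u => hc v c u
    | one => exact map_one φ
    | mul a b _ _ ha hb => rw [map_mul, ha, hb, one_mul]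
    | inv a _ ha =>
      have h := map_mul φ a⁻¹ a
      rw [inv_mul_cancel, map_one, ha, mul_one] at h
      exact h.symm
  have hv : v ≠ 0 := fun e => hu (by rw [e, sympT_zero_vec, map_one, Module.End.one_apply])
  obtain ⟨χ, hχ, hne⟩ := exists_eig_ne_one φ (fun a b => sympT_add hA v a b) ⊤ (fun _ _ _ => trivial)
    (x := u) trivial hu
  rw [top_inf_eq] at hne
  obtain ⟨t, ht⟩ := exists_mulShift hψ χ
  obtain rfl : χ = ψ.mulShift t := DFunLike.ext _ _ fun c => by rw [ht, AddChar.mulShift_apply]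
  have ht0 : t ≠ 0 := fun e => hχ (by rw [e, AddChar.mulShift_zero])
  obtain ⟨y, hy, hy0⟩ := Submodule.exists_mem_ne_zero_of_ne_bot hne
  have go : ∀ (a s : F), a ≠ 0 → t * a ^ 2 = s → eX hA φ (ψ.mulShift s) x₀ ≠ ⊥ := by
    intro a s ha hs
    obtain ⟨g, hg⟩ := sympIsom_transitive hA (sympBilin_nondegenerate n F) (smul_ne_zero ha hv) hx₀
    refine (Submodule.ne_bot_iff _).mpr ⟨φ g y, ?_, fun e => hy0 (by
      rw [← phi_cancel (χ := φ) g y, e, map_zero])⟩
    have h := eX_conj (hA := hA) (φ := φ) (ψ := ψ.mulShift (t * a ^ 2)) (g := g) (eig_sympT_smul hy a)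
    rwa [hg, hs] at h
  by_cases hsq : IsSquare t
  · left
    obtain ⟨r, hr⟩ := hsq
    have hr0 : r ≠ 0 := fun e => ht0 (by rw [hr, e, zero_mul])
    rw [self_eq_shift (ψ := ψ)]
    exact go r⁻¹ 1 (inv_ne_zero hr0) (by rw [hr]; field_simp)
  · right
    obtain ⟨r, hr⟩ := isSquare_div_nonsquare hodd hsq hν
    have hν0 : ν ≠ 0 := fun e => hν (e ▸ IsSquare.zero)
    have hr0 : r ≠ 0 := fun e => div_ne_zero ht0 hν0 (by rw [hr, e, zero_mul])
    refine go r⁻¹ ν (inv_ne_zero hr0) ?_
    rw [show t = r * r * ν by rw [← hr, div_mul_cancel₀ t hν0]]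
    field_simp

/-- Four representations exhaust those below the gap. -/
theorem exists_weil_family (hn : 2 ≤ n) (hodd : Odd (Fintype.card F)) :
    ∃ X : Bool → Bool → IrrCharacter (symplecticGroup (Fin n) F),
      (∀ b, Function.Injective fun i => X i b) ∧
      (∀ i, ((X i true : symplecticGroup (Fin n) F → ℂ) 1 = (((Fintype.card F) ^ n + 1 : ℕ) : ℂ) / 2) ∧
        ((X i false : symplecticGroup (Fin n) F → ℂ) 1 = (((Fintype.card F) ^ n - 1 : ℕ) : ℂ) / 2)) ∧
      ∀ χ : IrrCharacter (symplecticGroup (Fin n) F), (∃ i b, χ = X i b) ∨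
        (χ : symplecticGroup (Fin n) F → ℂ) 1 = 1 ∨
        ∃ k : ℕ, (χ : symplecticGroup (Fin n) F → ℂ) 1 = (k : ℂ) ∧
          (Fintype.card F ^ n - 1) * (Fintype.card F ^ n - Fintype.card F) ≤ 2 * (Fintype.card F + 1) * k := by
  classical
  have h2 := two_ne hodd
  set hA := sympBilin_isAlt n F
  obtain ⟨ψ₀, hψ₀⟩ := exists_ne_one F
  obtain ⟨ν, hν⟩ := exists_nonsquare hodd
  have hν0 : ν ≠ 0 := fun e => hν (e ▸ IsSquare.zero)
  let a : Bool → F := fun i => if i then 1 else ν
  have ha : ∀ i, a i ≠ 0 := fun i => by cases i <;> simp [a, hν0]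
  let ψ : Bool → AddChar F ℂ := fun i => ψ₀.mulShift (2 * a i)
  have hψ : ∀ i, ψ i ≠ 1 := fun i => AddChar.IsPrimitive.of_ne_one hψ₀ (mul_ne_zero h2 (ha i))
  have hdet : ∀ i j, (ψ i).mulShift (a j / a i / 2) = ψ₀.mulShift (a j) := fun i j =>
    DFunLike.ext _ _ fun c => by
      simp only [ψ, AddChar.mulShift_apply]
      congr 1
      have := ha i
      field_simp
  choose R hR using fun i => exists_omega (n := n) h2 (ψ i) (hψ i)
  let ε : Bool → ℂ := fun b => if b then 1 else -1
  have hε : ∀ b, ε b = 1 ∨ ε b = -1 := fun b => by cases b <;> simp [ε]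
  have hε2 : ∀ b, ε b * ε b = 1 := fun b => by cases b <;> simp [ε]
  let W : ∀ (i b : Bool), BilinIsom (sympBilin n F) →* Module.End ℂ (parEig F n (ε b)) := fun i b =>
    half (fun g => (hR i g).2) (ε b)
  have hW1 : ∀ i b, R1 hA (W i b) := fun i b => half_R1 h2 (ψ i) (hψ i) (hR i) hn (ε b)
  have hWI : ∀ i b, Irr (W i b) := fun i b => half_irr h2 (ψ i) (hψ i) (hR i) hn hodd (hε b)
  set x₀ := vec0 (F := F) (Pi.single (⟨0, by omega⟩ : Fin n) 1) with hx₀
  have hx₀0 : x₀ ≠ 0 := vec0_e0_ne hn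
  have hWe : ∀ i b, eX hA (W i b) (ψ₀.mulShift (a i)) x₀ ≠ ⊥ := fun i b => by
    have := half_eX_ne_bot h2 (ψ i) (hψ i) (hR i) hn (hε2 b)
    rwa [show (1 : F) / 2 = a i / a i / 2 by rw [div_self (ha i)], hdet] at this
  have hWsep : ∀ i j b, i ≠ j → eX hA (W i b) (ψ₀.mulShift (a j)) x₀ = ⊥ := fun i j b hij => by
    by_contra hne
    rw [← hdet i j] at hne
    obtain ⟨r, hr⟩ := half_class h2 (ψ i) (hψ i) (hR i) hn (ε b) hne
    cases i <;> cases j <;> simp only [a, ne_eq, not_true_eq_false, if_true, if_false, div_one,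
      Bool.false_eq_true] at hij hr
    · have hr0 : r ≠ 0 := fun e => by rw [e, zero_mul, div_eq_zero_iff] at hr; simp [hν0] at hr
      exact hν ⟨r⁻¹, by field_simp at hr ⊢; linear_combination -hr⟩
    · exact hν ⟨r, hr⟩
  have hnt : ∀ b, Nontrivial (parEig F n (ε b)) := fun b =>
    Submodule.nontrivial_iff_ne_bot.mpr fun e => by
      have h := hWe true b
      obtain ⟨y, -, hy⟩ := Submodule.exists_mem_ne_zero_of_ne_bot h
      exact hy (Subtype.ext ((Submodule.mem_bot ℂ).mp (e ▸ y.2)))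
  let WM : ∀ (i b : Bool), Representation ℂ (symplecticGroup (Fin n) F) (parEig F n (ε b)) := fun i b =>
    (W i b).comp (sympEquiv n F).toMonoidHom
  let X : Bool → Bool → IrrCharacter (symplecticGroup (Fin n) F) := fun i b => ⟨(WM i b).character, by
    haveI := hnt b
    haveI := toMatrixRep_irr (hWI i b)
    exact Cfsg.Lib.Chars.isIrrCharacter_character (WM i b)⟩
  have hXv : ∀ i b g, (X i b : symplecticGroup (Fin n) F → ℂ) g = LinearMap.trace ℂ _ (W i b (sympEquiv n F g)) :=
    fun i b g => rfl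
  have hX1 : ∀ i b, (X i b : symplecticGroup (Fin n) F → ℂ) 1 = (Module.finrank ℂ (parEig F n (ε b)) : ℂ) :=
    fun i b => by rw [hXv, map_one, map_one, LinearMap.trace_one]
  refine ⟨X, fun b i j e => ?_, fun i => ⟨?_, ?_⟩, fun χ => ?_⟩
  · by_contra hij
    have htr : LinearMap.trace ℂ _ (pX hA (W i b) (ψ₀.mulShift (a i)) x₀) =
        LinearMap.trace ℂ _ (pX hA (W j b) (ψ₀.mulShift (a i)) x₀) := by
      rw [trace_pX_eq_sum, trace_pX_eq_sum]
      congr 1
      refine Finset.sum_congr rfl fun c _ => ?_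
      have := congrFun (congrArg Subtype.val e) ((sympEquiv n F).symm (sympT hA x₀ c))
      simp only [hXv, MulEquiv.apply_symm_apply] at this
      rw [this]
    rw [trace_pX, trace_pX, hWsep j i b (Ne.symm hij), finrank_bot, Nat.cast_zero, Nat.cast_eq_zero,
      Submodule.finrank_eq_zero] at htr
    exact hWe i b htr
  · rw [hX1]
    have := finrank_parEig (F := F) (n := n) h2 (ε := 1) (by norm_num)
    rw [show ε true = 1 from rfl]
    push_cast
    linear_combination this / 2
  · rw [hX1]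
    have := finrank_parEig (F := F) (n := n) h2 (ε := -1) (by norm_num)
    rw [show ε false = -1 from rfl, Nat.cast_sub (Nat.one_le_pow _ _ Fintype.card_pos)]
    push_cast
    linear_combination this / 2
  obtain ⟨m, ρ, hirr, hρ⟩ := χ.2
  let φ : BilinIsom (sympBilin n F) →* Module.End ℂ (Fin m → ℂ) :=
    MonoidHom.comp ρ (sympEquiv n F).symm.toMonoidHom
  have hφρ : ∀ g, φ (sympEquiv n F g) = ρ g := fun g => by simp [φ]
  have hdeg : (χ : symplecticGroup (Fin n) F → ℂ) 1 = (m : ℂ) := by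
    rw [← hρ, Representation.character, map_one, LinearMap.trace_one, Module.finrank_fin_fun]
  have hIrr : Irr φ := fun Y hY => by
    let S : Subrepresentation ρ := ⟨Y, fun g v hv => by rw [← hφρ]; exact hY _ v hv⟩
    rcases (hirr : IsSimpleOrder (Subrepresentation ρ)).eq_bot_or_eq_top S with h | h
    · exact Or.inl (congrArg Subrepresentation.toSubmodule h)
    · exact Or.inr (congrArg Subrepresentation.toSubmodule h)
  by_cases htriv : ∀ g, φ g = 1
  · refine Or.inr (Or.inl ?_)
    haveI : Nontrivial (Fin m → ℂ) := by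
      haveI := hirr
      exact Cfsg.Lib.Chars.nontrivial_of_irreducible ρ
    obtain ⟨v, hv⟩ := exists_ne (0 : Fin m → ℂ)
    have htop : (ℂ ∙ v) = ⊤ := (hIrr (ℂ ∙ v) fun g y hy => by
      rw [htriv, Module.End.one_apply]; exact hy).resolve_left (by simp [hv])
    have := finrank_span_singleton (K := ℂ) hv
    rw [htop, finrank_top, Module.finrank_fin_fun] at this
    rw [hdeg, this, Nat.cast_one]
  push Not at htriv
  obtain ⟨g₀, hg₀⟩ := htriv
  by_cases hR1 : R1 hA φ
  swap
  · refine Or.inr (Or.inr ⟨m, hdeg, ?_⟩)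
    have := not_R1_bound hn hodd hR1
    rwa [Module.finrank_fin_fun] at this
  refine Or.inl ?_
  obtain ⟨i, hi⟩ : ∃ i, eX hA φ (ψ₀.mulShift (a i)) x₀ ≠ ⊥ := by
    rcases exists_class hn hodd hg₀ hψ₀ hν hx₀0 with h | h
    · exact ⟨true, by simpa [a, AddChar.mulShift_one] using h⟩
    · exact ⟨false, by simpa [a] using h⟩
  obtain ⟨e₀, he₀⟩ : ∃ e₀ : ℂ, φ (negIsom (sympBilin n F)) = e₀ • 1 := by
    haveI := hirr
    refine (Cfsg.Lib.Chars.schur_scalar ρ (φ (negIsom (sympBilin n F))) fun g v => ?_).imp fun c hc => hc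
    rw [← hφρ, ← Module.End.mul_apply, ← Module.End.mul_apply, ← map_mul, ← map_mul, negIsom_comm]
  obtain ⟨c, hc0, hc⟩ := half_neg h2 (ψ i) (hψ i) (hR i)
  have hsq : ∀ {M : Type u} [AddCommGroup M] [Module ℂ M] [Nontrivial M]
      (χ' : BilinIsom (sympBilin n F) →* Module.End ℂ M) {x : ℂ},
      χ' (negIsom (sympBilin n F)) = x • 1 → x * x = 1 := by
    intro M _ _ _ χ' x hx
    have h1 : χ' (negIsom (sympBilin n F) * negIsom (sympBilin n F)) = 1 := by
      rw [show negIsom (sympBilin n F) * negIsom (sympBilin n F) = 1 from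
        BilinIsom.ext' fun y => by simp [BilinIsom.mul_apply', negIsom_apply, BilinIsom.one_apply'], map_one]
    rw [map_mul, hx, smul_mul_smul_comm, mul_one] at h1
    obtain ⟨v, hv⟩ := exists_ne (0 : M)
    have := congrArg (fun T : Module.End ℂ M => T v) h1
    simp only [LinearMap.smul_apply, Module.End.one_apply] at this
    exact smul_left_injective ℂ hv (this.trans (one_smul ℂ v).symm)
  have hc2 : (c * ε true) * (c * ε true) = 1 := by
    haveI := hnt true
    exact hsq (W i true) (hc _)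
  have he2 : e₀ * e₀ = 1 := by
    haveI : Nontrivial (Fin m → ℂ) := by
      haveI := hirr
      exact Cfsg.Lib.Chars.nontrivial_of_irreducible ρ
    obtain ⟨v, hv⟩ := exists_ne (0 : Fin m → ℂ)
    have h1 : φ (negIsom (sympBilin n F) * negIsom (sympBilin n F)) = 1 := by
      rw [show negIsom (sympBilin n F) * negIsom (sympBilin n F) = 1 from
        BilinIsom.ext' fun y => by simp [BilinIsom.mul_apply', negIsom_apply, BilinIsom.one_apply'], map_one]
    rw [map_mul, he₀, smul_mul_smul_comm, mul_one] at h1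
    have := congrArg (fun T : Module.End ℂ (Fin m → ℂ) => T v) h1
    simp only [LinearMap.smul_apply, Module.End.one_apply] at this
    exact smul_left_injective ℂ hv (this.trans (one_smul ℂ v).symm)
  obtain ⟨b, hb⟩ : ∃ b, c * ε b = e₀ := by
    rcases mul_self_eq_mul_self_iff.mp (he2.trans hc2.symm) with h | h
    · exact ⟨true, h.symm⟩
    · exact ⟨false, by simp [ε] at h ⊢; exact h.symm⟩
  obtain ⟨e, he⟩ := equiv_of_R1 hR1 (hW1 i b)
    (AddChar.IsPrimitive.of_ne_one hψ₀ (ha i)) h2 (sympBilin_nondegenerate n F)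
    (by rw [finrank_sympSpace]; omega) hIrr (hWI i b) hx₀0 hi (hWe i b) he₀ (by rw [hc, hb])
  refine ⟨i, b, Subtype.ext (funext fun g => ?_)⟩
  rw [hXv, ← hρ, Representation.character]
  have hconj : W i b (sympEquiv n F g) = e.conj (φ (sympEquiv n F g)) := LinearMap.ext fun v => by
    rw [LinearEquiv.conj_apply, LinearMap.comp_apply, LinearMap.comp_apply, LinearEquiv.coe_coe, LinearEquiv.coe_coe,
      he, LinearEquiv.apply_symm_apply]
  rw [hconj, LinearMap.trace_conj', hφρ]

end Cfsg.Lib.SpWeil
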